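import Cfsg.Agent.H67.MTwentyThree.Orbits

/-!
The orbital graph of valency 112, the seven orbits of `Q` on the neighbours of the base point and
the action on them of the stabiliser of an edge.
-/

set_option autoImplicit false
set_option linter.style.haveILetI false
set_option linter.unusedSectionVars false

open scoped Classical

namespace Cfsg.Agent.H67.MTwentyThree

open MulAction Subgroup

universe u v

namespace Suborbits

variable {G : Type u} [Group G] {Ω : Type v} [MulAction G Ω] [IsPretransitive G Ω] [Fintype Ω]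
  {P : Setting G Ω} (S : Suborbits P)

/-- Adjacency. -/
def Adj (_S : Suborbits P) (x y : Ω) : Prop :=
  ∃ k : G, k • x = P.a ∧ k • y ∈ orbit P.H _S.b

theorem adj_base {y : Ω} : S.Adj P.a y ↔ y ∈ orbit P.H S.b := by
  constructor
  · rintro ⟨k, hk, hy⟩
    obtain ⟨h, hh⟩ := hy
    refine ⟨⟨k⁻¹, inv_mem (P.mem_H.2 hk)⟩ * h, ?_⟩
    show (k⁻¹ * (h : G)) • S.b = y
    rw [mul_smul, show (h : G) • S.b = k • y from hh, inv_smul_smul]
  · exact fun h => ⟨1, one_smul _ _, by rwa [one_smul]⟩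

theorem adj_symm {x y : Ω} (h : S.Adj x y) : S.Adj y x := by
  obtain ⟨k, hx, ⟨m, hm⟩⟩ := h
  change (m : G) • S.b = k • y at hm
  refine ⟨S.u * (m : G)⁻¹ * k, ?_, ?_⟩
  · rw [mul_smul, mul_smul, ← hm, inv_smul_smul, S.hub]
  · rw [mul_smul, mul_smul, hx, P.smul_a (inv_mem m.2), S.hua]
    exact mem_orbit_self _

theorem adj_comm {x y : Ω} : S.Adj x y ↔ S.Adj y x := ⟨S.adj_symm, S.adj_symm⟩

theorem adj_smul (g : G) {x y : Ω} : S.Adj (g • x) (g • y) ↔ S.Adj x y := by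
  constructor
  · rintro ⟨k, h1, h2⟩
    exact ⟨k * g, by rwa [mul_smul], by rwa [mul_smul]⟩
  · rintro ⟨k, h1, h2⟩
    exact ⟨k * g⁻¹, by rwa [mul_smul, inv_smul_smul], by rwa [mul_smul, inv_smul_smul]⟩

theorem not_adj_self (x : Ω) : ¬ S.Adj x x := by
  rintro ⟨k, h1, h2⟩
  exact S.hba (h1 ▸ h2)

/-- The neighbours of a point. -/
noncomputable def nb (x : Ω) : Finset Ω := Finset.univ.filter (S.Adj x)

theorem mem_nb {x y : Ω} : y ∈ S.nb x ↔ S.Adj x y := by simp [nb]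

theorem mem_nb_a {y : Ω} : y ∈ S.nb P.a ↔ y ∈ orbit P.H S.b := by rw [S.mem_nb, S.adj_base]

theorem nb_smul (g : G) (x : Ω) : S.nb (g • x) = (S.nb x).image (g • ·) := by
  ext y
  simp only [Finset.mem_image, S.mem_nb]
  constructor
  · exact fun h => ⟨g⁻¹ • y, (S.adj_smul g).1 (by rwa [smul_inv_smul]), smul_inv_smul g y⟩
  · rintro ⟨z, hz, rfl⟩
    exact (S.adj_smul g).2 hz

theorem card_nb (x : Ω) : (S.nb x).card = 112 := by
  obtain ⟨g, rfl⟩ := exists_smul_eq G P.a x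
  rw [S.nb_smul, Finset.card_image_of_injective _ (MulAction.injective g), ← S.card_b,
    Nat.card_eq_fintype_card, Fintype.card_subtype]
  congr 1
  ext y
  simp [S.mem_nb_a]

theorem card_inter_smul (g : G) (x y : Ω) :
    (S.nb (g • x) ∩ S.nb (g • y)).card = (S.nb x ∩ S.nb y).card := by
  rw [S.nb_smul, S.nb_smul, ← Finset.image_inter _ _ (MulAction.injective g),
    Finset.card_image_of_injective _ (MulAction.injective g)]

/-- The points other than the base point and its neighbours. -/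
noncomputable def far (S : Suborbits P) : Finset Ω :=
  Finset.univ.filter (· ∈ orbit P.H S.c)

theorem mem_far {y : Ω} : y ∈ S.far ↔ y ∈ orbit P.H S.c := by simp [far]

theorem card_far : S.far.card = 140 := by
  rw [← S.card_c, Nat.card_eq_fintype_card, Fintype.card_subtype]
  rfl

theorem cases_pt (y : Ω) : y = P.a ∨ y ∈ S.nb P.a ∨ y ∈ S.far := by
  rcases S.hall y with h | h | h
  · exact Or.inl h
  · exact Or.inr (Or.inl (S.mem_nb_a.2 h))
  · exact Or.inr (Or.inr (S.mem_far.2 h))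

theorem far_not {y : Ω} (hy : y ∈ S.far) : y ≠ P.a ∧ y ∉ S.nb P.a := by
  rw [S.mem_far] at hy
  exact ⟨fun e => S.hca (e ▸ hy), fun h => S.hbc y (S.mem_nb_a.1 h) hy⟩

theorem a_notMem_nb : P.a ∉ S.nb P.a := fun h => S.not_adj_self _ (S.mem_nb.1 h)

theorem b_mem : S.b ∈ S.nb P.a := S.mem_nb_a.2 (mem_orbit_self _)

theorem a_mem_nb_b : P.a ∈ S.nb S.b :=
  S.mem_nb.2 (S.adj_symm (S.adj_base.2 (mem_orbit_self _)))

theorem smul_nb_a {h : G} (hh : h ∈ P.H) {y : Ω} : h • y ∈ S.nb P.a ↔ y ∈ S.nb P.a := by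
  rw [S.mem_nb, S.mem_nb]
  conv_lhs => rw [← P.smul_a hh, S.adj_smul]

/-- The orbit of a point under `Q`. -/
noncomputable def qorb (_S : Suborbits P) (x : Ω) : Finset Ω :=
  Finset.univ.filter (· ∈ orbit P.Q x)

theorem mem_qorb {x y : Ω} : y ∈ S.qorb x ↔ ∃ q ∈ P.Q, q • x = y := by
  simp only [qorb, Finset.mem_filter, Finset.mem_univ, true_and]
  constructor
  · rintro ⟨q, rfl⟩
    exact ⟨q, q.2, rfl⟩
  · rintro ⟨q, hq, rfl⟩
    exact ⟨⟨q, hq⟩, rfl⟩

theorem self_mem_qorb (x : Ω) : x ∈ S.qorb x := S.mem_qorb.2 ⟨1, one_mem _, one_smul _ _⟩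

theorem qorb_eq {x y : Ω} (h : y ∈ S.qorb x) : S.qorb y = S.qorb x := by
  ext z
  simp only [qorb, Finset.mem_filter, Finset.mem_univ, true_and] at h ⊢
  rw [orbit_eq_iff.2 h]

theorem qorb_eq_iff {x y : Ω} : S.qorb y = S.qorb x ↔ y ∈ S.qorb x :=
  ⟨fun h => h ▸ S.self_mem_qorb y, S.qorb_eq⟩

theorem qorb_smul {h : G} (hh : h ∈ P.H) (x : Ω) :
    S.qorb (h • x) = (S.qorb x).image (h • ·) := by
  ext z
  simp only [Finset.mem_image, S.mem_qorb]
  constructor
  · rintro ⟨q, hq, rfl⟩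
    refine ⟨(h⁻¹ * q * h) • x, ⟨_, P.conj_mem' hh hq, rfl⟩, ?_⟩
    rw [mul_smul, mul_smul, smul_inv_smul]
  · rintro ⟨w, ⟨q, hq, rfl⟩, rfl⟩
    refine ⟨_, P.conj_mem hh hq, ?_⟩
    rw [mul_smul, mul_smul, inv_smul_smul]

theorem smul_mem_qorb {h : G} (hh : h ∈ P.H) {x y : Ω} :
    h • y ∈ S.qorb (h • x) ↔ y ∈ S.qorb x := by
  rw [S.qorb_smul hh]
  exact (MulAction.injective h).mem_finset_image

theorem qorb_subset {x : Ω} (hx : x ∈ S.nb P.a) : S.qorb x ⊆ S.nb P.a := by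
  intro y hy
  obtain ⟨q, hq, rfl⟩ := S.mem_qorb.1 hy
  exact (S.smul_nb_a (P.Q_le hq)).2 hx

theorem card_qorb_mul (x : Ω) : (S.qorb x).card * Nat.card (P.qfix x) = 16 := by
  haveI := P.finite
  have h := (stabilizer P.Q x).card_mul_index
  have e : stabilizer P.Q x = (P.qfix x).subgroupOf P.Q := by
    ext q
    simp [mem_subgroupOf]
    rfl
  rw [index_stabilizer, P.hQ, e,
    Nat.card_congr (subgroupOfEquivOfLe (inf_le_left : P.qfix x ≤ P.Q)).toEquiv] at h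
  rw [mul_comm, show (S.qorb x).card = (orbit P.Q x).ncard by
    rw [← Set.ncard_coe_finset]; congr 1; ext y; simp [qorb]]
  exact h

theorem card_qorb {x : Ω} (hx : x ∈ S.nb P.a) : (S.qorb x).card = 16 := by
  haveI := P.finite
  have h1 : Nat.card (P.qfix x) = 1 := by
    rw [Subgroup.card_eq_one, Subgroup.eq_bot_iff_forall]
    exact fun q hq => S.free_b x (S.mem_nb_a.1 hx) q hq.1 hq.2
  have := S.card_qorb_mul x
  rwa [h1, mul_one] at this

/-- The seven orbits of `Q` on the neighbours of the base point. -/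
noncomputable def orbs : Finset (Finset Ω) := (S.nb P.a).image S.qorb

theorem qorb_mem {x : Ω} (hx : x ∈ S.nb P.a) : S.qorb x ∈ S.orbs := Finset.mem_image_of_mem _ hx

theorem sum_nb {M : Type*} [AddCommMonoid M] (F : Ω → M) :
    ∑ x ∈ S.nb P.a, F x = ∑ O ∈ S.orbs, ∑ x ∈ O, F x := by
  refine (Finset.sum_fiberwise_of_maps_to (fun x hx => S.qorb_mem hx) F).symm.trans
    (Finset.sum_congr rfl fun O hO => ?_)
  obtain ⟨y, hy, rfl⟩ := Finset.mem_image.1 hO
  refine Finset.sum_congr ?_ fun _ _ => rfl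
  ext x
  rw [Finset.mem_filter, S.qorb_eq_iff]
  exact ⟨fun h => h.2, fun h => ⟨S.qorb_subset hy h, h⟩⟩

theorem card_orbs : S.orbs.card = 7 := by
  have h := S.sum_nb fun _ => 1
  rw [← Finset.card_eq_sum_ones, S.card_nb, Finset.sum_congr rfl (g := fun _ => 16) fun O hO => by
    obtain ⟨y, hy, rfl⟩ := Finset.mem_image.1 hO
    rw [← Finset.card_eq_sum_ones, S.card_qorb hy], Finset.sum_const, smul_eq_mul] at h
  omega

/-- The stabiliser of the edge. -/
abbrev L (_S : Suborbits P) : Subgroup G := P.H ⊓ stabilizer G _S.b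

theorem smul_b {l : G} (hl : l ∈ S.L) : l • S.b = S.b := hl.2

theorem card_L : Nat.card S.L = 360 := by
  have h := P.card_orbit_mul S.b
  rw [S.card_b] at h
  show Nat.card (P.H ⊓ stabilizer G S.b : Subgroup G) = 360
  omega

theorem conj_L {l : G} (hl : l ∈ S.L) : S.u⁻¹ * l * S.u ∈ S.L := by
  refine ⟨P.mem_H.2 ?_, ?_⟩
  · rw [mul_smul, mul_smul, S.hua, S.smul_b hl, inv_smul_eq_iff, S.hua]
  · show (S.u⁻¹ * l * S.u) • S.b = S.b
    rw [mul_smul, mul_smul, S.hub, P.smul_a hl.1, inv_smul_eq_iff, S.hub]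

/-- The edge stabiliser is transitive on `Q \ {1}`. -/
theorem trans_Q {q r : G} (hq : q ∈ P.Q) (hq1 : q ≠ 1) (hr : r ∈ P.Q) (hr1 : r ≠ 1) :
    ∃ l ∈ S.L, l * q * l⁻¹ = r := by
  haveI := P.finite
  letI : MulAction S.L G := MulAction.compHom G (ConjAct.toConjAct.toMonoidHom.comp S.L.subtype)
  have hsm : ∀ (l : S.L) (x : G), l • x = (l : G) * x * (l : G)⁻¹ := fun h x => rfl
  have hsub : orbit S.L q ⊆ (P.Q : Set G) \ {1} := by
    rintro _ ⟨l, rfl⟩
    exact ⟨P.conj_mem l.2.1 hq, fun e => hq1 (conj_eq_one_iff.1 e)⟩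
  have h15 : ((P.Q : Set G) \ {1}).ncard = 15 := by
    rw [Set.ncard_sdiff_singleton_of_mem P.Q.one_mem, ← Nat.card_coe_set_eq]
    show Nat.card P.Q - 1 = 15
    rw [P.hQ]
  have hst : stabilizer S.L q = (centralizer ({q} : Set G)).subgroupOf S.L := by
    ext l
    rw [mem_stabilizer_iff, hsm, mem_subgroupOf, mem_centralizer_singleton_iff,
      mul_inv_eq_iff_eq_mul]
  have hd : Nat.card (stabilizer S.L q) ∣ 24 := by
    have h1 : Nat.card (stabilizer S.L q) ∣ 360 :=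
      S.card_L ▸ Subgroup.card_subgroup_dvd_card _
    have h2 : Nat.card (stabilizer S.L q) ∣ 2688 := by
      rw [← P.card_cent hq hq1, hst]
      exact Subgroup.card_dvd_of_injective
        ((Subgroup.subtype S.L).subgroupComap (centralizer ({q} : Set G)))
        (fun x y h => Subtype.ext (Subtype.ext (congrArg (fun z : centralizer ({q} : Set G) =>
          (z : G)) h)))
    have := Nat.dvd_gcd h1 h2
    norm_num at this
    exact this
  have hle := Nat.le_of_dvd (by norm_num) hd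
  have hmul := (stabilizer S.L q).card_mul_index
  rw [index_stabilizer, S.card_L] at hmul
  have h15' : 15 ≤ (orbit S.L q).ncard := by
    by_contra hlt
    have := Nat.mul_le_mul hle (Nat.le_of_lt_succ (Nat.lt_of_not_le hlt))
    omega
  have horb := Set.eq_of_subset_of_ncard_le hsub (by rw [h15]; exact h15') (Set.toFinite _)
  obtain ⟨l, hl⟩ : r ∈ orbit S.L q := by rw [horb]; exact ⟨hr, hr1⟩
  exact ⟨l, l.2, hl⟩

/-- The stabiliser of the orbit of `b`. -/
def T (S : Suborbits P) : Subgroup G where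
  carrier := {h | h ∈ P.H ∧ ∃ q ∈ P.Q, q • S.b = h • S.b}
  one_mem' := ⟨one_mem _, 1, one_mem _, rfl⟩
  mul_mem' := by
    rintro g h ⟨hg, q, hq, hqb⟩ ⟨hh, r, hr, hrb⟩
    refine ⟨mul_mem hg hh, g * r * g⁻¹ * q, mul_mem (P.conj_mem hg hr) hq, ?_⟩
    rw [mul_smul, hqb, mul_smul, mul_smul, inv_smul_smul, hrb, mul_smul]
  inv_mem' := by
    rintro g ⟨hg, q, hq, hqb⟩
    refine ⟨P.H.inv_mem hg, g⁻¹ * q⁻¹ * g, P.conj_mem' hg (P.Q.inv_mem hq), ?_⟩
    rw [mul_smul, mul_smul, ← hqb, inv_smul_smul]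

theorem T_le : S.T ≤ P.H := fun _ h => h.1

theorem Q_le_T : P.Q ≤ S.T := fun q hq => ⟨P.Q_le hq, q, hq, rfl⟩

theorem L_le_T : S.L ≤ S.T := fun _ hl => ⟨hl.1, 1, one_mem _, by rw [one_smul, S.smul_b hl]⟩

theorem mem_T {h : G} (hh : h ∈ P.H) : h ∈ S.T ↔ S.qorb (h • S.b) = S.qorb S.b := by
  rw [S.qorb_eq_iff, S.mem_qorb]
  exact ⟨fun h => h.2, fun h' => ⟨hh, h'⟩⟩

theorem decomp {t : G} (ht : t ∈ S.T) : ∃ q ∈ P.Q, ∃ l ∈ S.L, t = q * l := by
  obtain ⟨hH, q, hq, hqb⟩ := ht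
  refine ⟨q, hq, q⁻¹ * t, ⟨P.H.mul_mem (P.H.inv_mem (P.Q_le hq)) hH, ?_⟩, by group⟩
  show (q⁻¹ * t) • S.b = S.b
  rw [mul_smul, ← hqb, inv_smul_smul]

theorem card_T : Nat.card S.T = 5760 := by
  haveI := P.finite
  let φ : P.Q × S.L → S.T := fun p =>
    ⟨(p.1 : G) * (p.2 : G), mul_mem (S.Q_le_T p.1.2) (S.L_le_T p.2.2)⟩
  have hφ : Function.Bijective φ := by
    constructor
    · rintro ⟨q, l⟩ ⟨r, m⟩ h
      have h' : (q : G) * l = r * m := congrArg Subtype.val h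
      have hb : (q : G) • S.b = (r : G) • S.b := by
        have := congrArg (fun g : G => g • S.b) h'
        simpa only [mul_smul, S.smul_b l.2, S.smul_b m.2] using this
      have hqr : ((r : G)⁻¹ * q) = 1 := S.free_b S.b (mem_orbit_self _) _
        (mul_mem (inv_mem r.2) q.2) (by rw [mul_smul, hb, inv_smul_smul])
      have e : (q : G) = r := (inv_mul_eq_one.1 hqr).symm
      exact Prod.ext (Subtype.ext e) (Subtype.ext (mul_left_cancel (e ▸ h')))
    · rintro ⟨t, ht⟩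
      obtain ⟨q, hq, l, hl, rfl⟩ := S.decomp ht
      exact ⟨(⟨q, hq⟩, ⟨l, hl⟩), rfl⟩
  rw [← Nat.card_congr (Equiv.ofBijective φ hφ), Nat.card_prod, P.hQ, S.card_L]

/-- The edge stabiliser fixes no other orbit of `Q`. -/
theorem not_fixed {y : Ω} (hy : y ∈ S.nb P.a) (hyb : y ∉ S.qorb S.b) :
    ∃ l ∈ S.L, l • y ∉ S.qorb y := by
  haveI := P.finite
  by_contra hcon
  push Not at hcon
  obtain ⟨⟨h, hh⟩, hhy⟩ := S.mem_nb_a.1 hy
  change h • S.b = y at hhy
  have hfix : ∀ t ∈ S.T, h⁻¹ * t * h ∈ S.T := by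
    intro t ht
    obtain ⟨q, hq, l, hl, rfl⟩ := S.decomp ht
    rw [show h⁻¹ * (q * l) * h = (h⁻¹ * q * h) * (h⁻¹ * l * h) by group]
    refine mul_mem (S.Q_le_T (P.conj_mem' hh hq)) ⟨mul_mem (mul_mem (inv_mem hh) hl.1) hh, ?_⟩
    obtain ⟨r, hr, hrl⟩ := S.mem_qorb.1 (hcon l hl)
    refine ⟨h⁻¹ * r * h, P.conj_mem' hh hr, ?_⟩
    rw [mul_smul, mul_smul, hhy, hrl, mul_smul, mul_smul, hhy]
  set N : Subgroup G := P.H ⊓ normalizer (S.T : Set G) with hN
  have hTN : S.T ≤ N := le_inf S.T_le le_normalizer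
  have hhN : h ∈ N := by
    refine ⟨hh, ?_⟩
    have hn : h⁻¹ ∈ normalizer (S.T : Set G) := by
      have hle : S.T.map (MulAut.conj h⁻¹).toMonoidHom ≤ S.T := by
        rintro _ ⟨t, ht, rfl⟩
        simpa using hfix t ht
      have heq := Subgroup.eq_of_le_of_card_ge hle
        (le_of_eq (Subgroup.card_map_of_injective (MulAut.conj h⁻¹).injective).symm)
      intro t
      constructor
      · intro ht
        rw [← heq]
        exact ⟨t, ht, rfl⟩
      · intro ht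
        rw [← heq] at ht
        obtain ⟨t', ht', he⟩ := ht
        exact (MulAut.conj h⁻¹).injective he ▸ ht'
    simpa using inv_mem hn
  have hhT : h ∉ S.T := fun hT => hyb (by
    rw [← S.qorb_eq_iff, ← hhy]; exact (S.mem_T hh).1 hT)
  obtain ⟨m, hm⟩ : Nat.card S.T ∣ Nat.card N := Subgroup.card_dvd_of_le hTN
  have hNd : Nat.card N ∣ 40320 := P.card_H ▸ Subgroup.card_dvd_of_le inf_le_left
  have hm1 : m ≠ 1 := fun e => hhT ((Subgroup.eq_of_le_of_card_ge hTN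
    (by rw [hm, e, mul_one])).symm ▸ hhN)
  rw [S.card_T] at hm
  have hm7 : m ∣ 7 := by
    rw [hm] at hNd
    exact Nat.dvd_of_mul_dvd_mul_left (by norm_num) (hNd.trans (show 40320 ∣ 5760 * 7 by norm_num))
  have hNH : N = P.H := by
    refine Subgroup.eq_of_le_of_card_ge inf_le_left ?_
    rcases (Nat.dvd_prime (by norm_num)).1 hm7 with e | e
    · exact absurd e hm1
    · rw [hm, e, P.card_H]
  haveI : Fact (Nat.Prime 7) := ⟨by norm_num⟩
  obtain ⟨s, hs⟩ := exists_prime_orderOf_dvd_card' (G := P.H) 7 (by rw [P.card_H]; norm_num)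
  refine P.no_seven s.2 (by rwa [Subgroup.orderOf_coe]) S.T_le ?_ (by rw [S.card_T]; norm_num)
    (by rw [S.card_T]; norm_num)
  exact (hNH.symm.le s.2).2

/-- The kernel of the action on the seven orbits. -/
def K (S : Suborbits P) : Subgroup G where
  carrier := {h | h ∈ P.H ∧ ∀ x ∈ orbit P.H S.b, h • x ∈ orbit P.Q x}
  one_mem' := ⟨one_mem _, fun x _ => by rw [one_smul]; exact mem_orbit_self x⟩
  mul_mem' := by
    rintro g h ⟨hg, hg'⟩ ⟨hh, hh'⟩
    refine ⟨mul_mem hg hh, fun x hx => ?_⟩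
    have hx' : h • x ∈ orbit P.H S.b := by
      rw [← orbit_eq_iff.2 hx]; exact ⟨⟨h, hh⟩, rfl⟩
    rw [mul_smul, ← orbit_eq_iff.2 (hh' x hx)]
    exact hg' _ hx'
  inv_mem' := by
    rintro g ⟨hg, hg'⟩
    refine ⟨inv_mem hg, fun x hx => ?_⟩
    have hx' : g⁻¹ • x ∈ orbit P.H S.b := by
      rw [← orbit_eq_iff.2 hx]; exact ⟨⟨g⁻¹, inv_mem hg⟩, rfl⟩
    have h := hg' _ hx'
    rw [smul_inv_smul] at h
    rw [orbit_eq_iff.2 h]
    exact mem_orbit_self _

theorem K_le_T : S.K ≤ S.T := by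
  rintro h ⟨hh, hh'⟩
  obtain ⟨q, hq⟩ := hh' S.b (mem_orbit_self _)
  exact ⟨hh, q, q.2, hq⟩

theorem K_conj {h k : G} (hh : h ∈ P.H) (hk : k ∈ S.K) : h * k * h⁻¹ ∈ S.K := by
  refine ⟨mul_mem (mul_mem hh hk.1) (inv_mem hh), fun x hx => ?_⟩
  have hx' : h⁻¹ • x ∈ orbit P.H S.b := by
    rw [← orbit_eq_iff.2 hx]; exact ⟨⟨h⁻¹, inv_mem hh⟩, rfl⟩
  obtain ⟨q, hq⟩ := hk.2 _ hx'
  change (q : G) • h⁻¹ • x = k • h⁻¹ • x at hq
  refine ⟨⟨h * q * h⁻¹, P.conj_mem hh q.2⟩, ?_⟩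
  show (h * (q : G) * h⁻¹) • x = (h * k * h⁻¹) • x
  rw [mul_smul, mul_smul, hq, mul_smul, mul_smul]

theorem five_notDvd_K : ¬ 5 ∣ Nat.card S.K := by
  haveI := P.finite
  intro h5
  haveI : Fact (Nat.Prime 7) := ⟨by norm_num⟩
  obtain ⟨s, hs⟩ := exists_prime_orderOf_dvd_card' (G := P.H) 7 (by rw [P.card_H]; norm_num)
  refine P.no_seven s.2 (by rwa [Subgroup.orderOf_coe]) (S.K_le_T.trans S.T_le) ?_ h5
    (fun h7 => absurd ((h7.trans (Subgroup.card_dvd_of_le S.K_le_T)).trans (dvd_of_eq S.card_T))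
      (by norm_num))
  refine mem_normalizer_iff.2 fun k => ⟨S.K_conj s.2, fun h => ?_⟩
  have := S.K_conj (inv_mem s.2) h
  simpa [mul_assoc] using this

theorem K_le_Q : S.K ≤ P.Q := by
  haveI := P.finite
  exact P.normal_le (S.K_le_T.trans S.T_le) (fun h hh k hk => S.K_conj hh hk) S.five_notDvd_K
    (fun h7 => absurd ((h7.trans (Subgroup.card_dvd_of_le S.K_le_T)).trans (dvd_of_eq S.card_T))
      (by norm_num))

/-- The edge stabiliser is transitive on the other six orbits. -/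
theorem trans_other {y z : Ω} (hy : y ∈ S.nb P.a) (hz : z ∈ S.nb P.a) (hyb : y ∉ S.qorb S.b)
    (hzb : z ∉ S.qorb S.b) : ∃ l ∈ S.L, l • y ∈ S.qorb z := by
  haveI := P.finite
  haveI : Fact (Nat.Prime 5) := ⟨by norm_num⟩
  obtain ⟨x, hx⟩ := exists_prime_orderOf_dvd_card' (G := S.L) 5 (by rw [S.card_L]; norm_num)
  have hx5 : orderOf (x : G) = 5 := by rwa [Subgroup.orderOf_coe]
  obtain ⟨w, hw, hwx⟩ : ∃ w ∈ S.nb P.a, (x : G) • w ∉ S.qorb w := by
    by_contra hcon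
    push Not at hcon
    refine S.five_notDvd_K (hx5 ▸ orderOf_dvd_natCard S.K ⟨x.2.1, fun v hv => ?_⟩)
    have := hcon v (S.mem_nb_a.2 hv)
    simpa [qorb] using this
  -- images of an orbit under the edge stabiliser
  let img : Ω → Finset (Finset Ω) := fun v =>
    S.orbs.filter fun O => ∃ l ∈ S.L, S.qorb (l • v) = O
  have himg : ∀ {v O}, v ∈ S.nb P.a → (O ∈ img v ↔ ∃ l ∈ S.L, S.qorb (l • v) = O) := by
    intro v O hv
    simp only [img, Finset.mem_filter, and_iff_right_iff_imp]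
    rintro ⟨l, hl, rfl⟩
    exact S.qorb_mem ((S.smul_nb_a hl.1).2 hv)
  have hfix : ∀ l ∈ S.L, S.qorb (l • S.b) = S.qorb S.b := fun l hl => by rw [S.smul_b hl]
  have hsub : ∀ {v}, v ∈ S.nb P.a → v ∉ S.qorb S.b → img v ⊆ S.orbs.erase (S.qorb S.b) := by
    intro v hv hvb O hO
    refine Finset.mem_erase.2 ⟨?_, (Finset.mem_filter.1 hO).1⟩
    obtain ⟨l, hl, rfl⟩ := (himg hv).1 hO
    intro he
    apply hvb
    rw [S.qorb_eq_iff, ← S.smul_b hl, S.smul_mem_qorb hl.1] at he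
    exact he
  have heq : ∀ {v v'}, v ∈ S.nb P.a → v' ∈ S.nb P.a → ¬ Disjoint (img v) (img v') →
      S.qorb v' ∈ img v := by
    intro v v' hv hv' hd
    obtain ⟨O, hO, hO'⟩ := Finset.not_disjoint_iff.1 hd
    obtain ⟨l, hl, rfl⟩ := (himg hv).1 hO
    obtain ⟨m, hm, hm'⟩ := (himg hv').1 hO'
    refine (himg hv).2 ⟨m⁻¹ * l, mul_mem (inv_mem hm) hl, S.qorb_eq ?_⟩
    have h1 : l • v ∈ S.qorb (m • v') := S.qorb_eq_iff.1 hm'.symm
    rw [mul_smul, ← S.smul_mem_qorb hm.1 (y := m⁻¹ • l • v), smul_inv_smul]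
    exact h1
  have htwo : ∀ {v}, v ∈ S.nb P.a → v ∉ S.qorb S.b → 2 ≤ (img v).card := by
    intro v hv hvb
    obtain ⟨l, hl, hlv⟩ := S.not_fixed hv hvb
    refine Finset.one_lt_card.2 ⟨S.qorb v, (himg hv).2 ⟨1, one_mem _, by rw [one_smul]⟩,
      S.qorb (l • v), (himg hv).2 ⟨l, hl, rfl⟩, fun e => hlv (S.qorb_eq_iff.1 e.symm)⟩
  have hwb : w ∉ S.qorb S.b := by
    intro h
    apply hwx
    have h1 := (S.smul_mem_qorb x.2.1 (x := S.b)).2 h
    rw [S.smul_b x.2] at h1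
    rwa [S.qorb_eq h]
  have hfive : 5 ≤ (img w).card := by
    have hinj : Set.InjOn (fun i : ℕ => S.qorb ((x : G) ^ i • w)) (Finset.range 5 : Finset ℕ) := by
      intro i hi j hj hij
      simp only [Finset.coe_range, Set.mem_Iio] at hi hj
      by_contra hne
      wlog hlt : i < j generalizing i j
      · exact this hij.symm hj hi (Ne.symm hne) (by omega)
      have h1 : (x : G) ^ (j - i) • w ∈ S.qorb w := by
        have h2 : (x : G) ^ j • w ∈ S.qorb ((x : G) ^ i • w) := S.qorb_eq_iff.1 hij.symm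
        rw [show (x : G) ^ j = (x : G) ^ i * (x : G) ^ (j - i) by rw [← pow_add]; congr 1; omega,
          mul_smul, S.smul_mem_qorb (pow_mem x.2.1 i)] at h2
        exact h2
      apply hwx
      have hmul : ∀ n : ℕ, ((x : G) ^ (j - i)) ^ n • w ∈ S.qorb w := by
        intro n
        induction n with
        | zero => rw [pow_zero, one_smul]; exact S.self_mem_qorb w
        | succ n ih =>
          rw [pow_succ', mul_smul]
          have h3 := (S.smul_mem_qorb (pow_mem x.2.1 (j - i))).2 ih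
          rwa [S.qorb_eq h1] at h3
      obtain ⟨n, -, hn⟩ : ∃ n ∈ Finset.range 5, (j - i) * n % 5 = 1 := by
        have : j - i = 1 ∨ j - i = 2 ∨ j - i = 3 ∨ j - i = 4 := by omega
        rcases this with e | e | e | e <;> rw [e] <;> decide
      have := hmul n
      rwa [← pow_mul, ← pow_mod_orderOf, hx5, hn, pow_one] at this
    have := Finset.card_le_card (s := (Finset.range 5).image fun i => S.qorb ((x : G) ^ i • w))
      (t := img w) (fun O hO => by
        obtain ⟨i, -, rfl⟩ := Finset.mem_image.1 hO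
        exact (himg hw).2 ⟨_, pow_mem x.2 i, rfl⟩)
    rwa [Finset.card_image_of_injOn hinj, Finset.card_range] at this
  have hsix : (S.orbs.erase (S.qorb S.b)).card = 6 := by
    rw [Finset.card_erase_of_mem (S.qorb_mem S.b_mem), S.card_orbs]
  have hall : ∀ {v}, v ∈ S.nb P.a → v ∉ S.qorb S.b → S.qorb v ∈ img w := by
    intro v hv hvb
    refine heq hw hv fun hd => ?_
    have := Finset.card_le_card (Finset.union_subset (hsub hw hwb) (hsub hv hvb))
    rw [Finset.card_union_of_disjoint hd, hsix] at this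
    have := htwo hv hvb
    omega
  obtain ⟨l, hl, hly⟩ := (himg hw).1 (hall hy hyb)
  obtain ⟨m, hm, hmz⟩ := (himg hw).1 (hall hz hzb)
  refine ⟨m * l⁻¹, mul_mem hm (inv_mem hl), ?_⟩
  have h1 : y ∈ S.qorb (l • w) := S.qorb_eq_iff.1 hly.symm
  have h2 := (S.smul_mem_qorb (inv_mem hl.1)).2 h1
  rw [inv_smul_smul] at h2
  have h3 := (S.smul_mem_qorb hm.1).2 h2
  rw [hmz] at h3
  rwa [mul_smul]

end Suborbits

end Cfsg.Agent.H67.MTwentyThree
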