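import Mathlib
import Cfsg.Agent.H90.MTwentyThree.GroupLemmas

/-!
The normaliser of a self-centralising subgroup `Q` of order 16 with index 253 in a group of order
10200960 whose involutions have centralisers of order 2688.
-/

set_option autoImplicit false
set_option linter.style.haveILetI false

namespace Cfsg.Agent.H67.MTwentyThree

open MulAction Subgroup H90.MTwentyThree

universe u v

/-- The local data: an action of degree 253 with stabiliser `N(Q)`. -/
structure Setting (G : Type u) [Group G] (Ω : Type v) [MulAction G Ω] where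
  /-- The base point. -/
  a : Ω
  /-- The subgroup of order 16. -/
  Q : Subgroup G
  hG : Nat.card G = 10200960
  hΩ : Nat.card Ω = 253
  hstab : stabilizer G a = normalizer (Q : Set G)
  hQ : Nat.card Q = 16
  hCQ : centralizer (Q : Set G) = Q
  hcz : ∀ z : G, orderOf z = 2 → Nat.card (centralizer ({z} : Set G)) = 2688
  hfix : ∀ z : G, orderOf z = 2 → Nat.card (fixedBy Ω z) = 29

namespace Setting

variable {G : Type u} [Group G] {Ω : Type v} [MulAction G Ω] (P : Setting G Ω)

/-- The normaliser. -/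
abbrev H : Subgroup G := normalizer (P.Q : Set G)

theorem finite (P : Setting G Ω) : Finite G :=
  Nat.finite_of_card_ne_zero (by rw [P.hG]; norm_num)

theorem finite' (P : Setting G Ω) : Finite Ω :=
  Nat.finite_of_card_ne_zero (by rw [P.hΩ]; norm_num)

theorem mem_H {h : G} : h ∈ P.H ↔ h • P.a = P.a := by rw [← mem_stabilizer_iff, P.hstab]

theorem Q_le : P.Q ≤ P.H := le_normalizer

theorem smul_a {h : G} (hh : h ∈ P.H) : h • P.a = P.a := P.mem_H.1 hh

theorem card_H [IsPretransitive G Ω] : Nat.card P.H = 40320 := by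
  have h := (stabilizer G P.a).card_mul_index
  rw [index_stabilizer_of_transitive, P.hΩ, P.hG, P.hstab] at h
  show Nat.card (normalizer (P.Q : Set G)) = 40320
  omega

theorem conj_mem {h q : G} (hh : h ∈ P.H) (hq : q ∈ P.Q) : h * q * h⁻¹ ∈ P.Q :=
  (mem_normalizer_iff.1 hh q).1 hq

theorem conj_mem' {h q : G} (hh : h ∈ P.H) (hq : q ∈ P.Q) : h⁻¹ * q * h ∈ P.Q := by
  have := P.conj_mem (inv_mem hh) hq
  rwa [inv_inv] at this

theorem commQ {x y : G} (hx : x ∈ P.Q) (hy : y ∈ P.Q) : Commute x y := by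
  rw [← P.hCQ] at hy
  exact mem_centralizer_iff.1 hy x hx

theorem exists_invol : ∃ z ∈ P.Q, orderOf z = 2 := by
  haveI := P.finite
  haveI : Fact (Nat.Prime 2) := ⟨Nat.prime_two⟩
  obtain ⟨z, hz⟩ := exists_prime_orderOf_dvd_card' (G := P.Q) 2 (by rw [P.hQ]; norm_num)
  exact ⟨z, z.2, by rwa [Subgroup.orderOf_coe]⟩

/-- Every element `≠ 1` of `Q` is conjugate in `N(Q)` to every involution of `Q`, and centralisers
of involutions of `Q` lie in `N(Q)`. -/
theorem invol_facts [IsPretransitive G Ω] {z : G} (hz : z ∈ P.Q) (hz2 : orderOf z = 2) :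
    (∀ q ∈ P.Q, q ≠ 1 → ∃ h ∈ P.H, h * z * h⁻¹ = q) ∧ centralizer ({z} : Set G) ≤ P.H := by
  classical
  haveI := P.finite
  letI : MulAction P.H G :=
    MulAction.compHom G (ConjAct.toConjAct.toMonoidHom.comp P.H.subtype)
  have hsm : ∀ (h : P.H) (x : G), h • x = (h : G) * x * (h : G)⁻¹ := fun h x => rfl
  have hz1 : z ≠ 1 := fun e => by rw [e, orderOf_one] at hz2; norm_num at hz2
  have hsub : orbit P.H z ⊆ (P.Q : Set G) \ {1} := by
    rintro _ ⟨h, rfl⟩
    refine ⟨P.conj_mem h.2 hz, fun e => hz1 ?_⟩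
    exact conj_eq_one_iff.1 e
  have h15 : ((P.Q : Set G) \ {1}).ncard = 15 := by
    rw [Set.ncard_sdiff_singleton_of_mem P.Q.one_mem, ← Nat.card_coe_set_eq]
    show Nat.card P.Q - 1 = 15
    rw [P.hQ]
  have hst : stabilizer P.H z = (centralizer ({z} : Set G)).subgroupOf P.H := by
    ext h
    rw [mem_stabilizer_iff, hsm, mem_subgroupOf, mem_centralizer_singleton_iff,
      mul_inv_eq_iff_eq_mul]
  have hstc : Nat.card (stabilizer P.H z) =
      Nat.card (centralizer ({z} : Set G) ⊓ P.H : Subgroup G) := by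
    rw [hst, ← Nat.card_congr (subgroupOfEquivOfLe
      (inf_le_right : centralizer ({z} : Set G) ⊓ P.H ≤ P.H)).toEquiv]
    rw [inf_subgroupOf_right]
  have hle : Nat.card (stabilizer P.H z) ≤ 2688 := by
    rw [hstc, ← P.hcz z hz2]
    exact Nat.card_mono (Set.toFinite _) (inf_le_left : centralizer ({z} : Set G) ⊓ P.H ≤ _)
  have hmul := (stabilizer P.H z).card_mul_index
  rw [index_stabilizer, P.card_H] at hmul
  have ho : (orbit P.H z).ncard ≤ 15 := h15 ▸ Set.ncard_le_ncard hsub (Set.toFinite _)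
  have ho15 : (orbit P.H z).ncard = 15 := by
    by_contra hne
    have : (orbit P.H z).ncard ≤ 14 := by omega
    have := Nat.mul_le_mul hle this
    omega
  have horb := Set.eq_of_subset_of_ncard_le hsub (by rw [h15, ho15]) (Set.toFinite _)
  refine ⟨fun q hq hq1 => ?_, ?_⟩
  · obtain ⟨h, hh⟩ : q ∈ orbit P.H z := by rw [horb]; exact ⟨hq, hq1⟩
    exact ⟨h, h.2, hh⟩
  · rw [ho15] at hmul
    have : centralizer ({z} : Set G) ⊓ P.H = centralizer ({z} : Set G) :=
      Subgroup.eq_of_le_of_card_ge inf_le_left (by rw [← hstc, P.hcz z hz2]; omega)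
    exact inf_eq_left.1 this

theorem orderOf_eq_two [IsPretransitive G Ω] {q : G} (hq : q ∈ P.Q) (hq1 : q ≠ 1) :
    orderOf q = 2 := by
  obtain ⟨z, hz, hz2⟩ := P.exists_invol
  obtain ⟨h, -, rfl⟩ := (P.invol_facts hz hz2).1 q hq hq1
  rw [← hz2]
  exact orderOf_injective (MulAut.conj h).toMonoidHom (MulAut.conj h).injective z

theorem conjugate [IsPretransitive G Ω] {q r : G} (hq : q ∈ P.Q) (hq1 : q ≠ 1) (hr : r ∈ P.Q)
    (hr1 : r ≠ 1) : ∃ h ∈ P.H, h * q * h⁻¹ = r :=
  (P.invol_facts hq (P.orderOf_eq_two hq hq1)).1 r hr hr1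

theorem cent_le [IsPretransitive G Ω] {q : G} (hq : q ∈ P.Q) (hq1 : q ≠ 1) :
    centralizer ({q} : Set G) ≤ P.H :=
  (P.invol_facts hq (P.orderOf_eq_two hq hq1)).2

theorem card_cent [IsPretransitive G Ω] {q : G} (hq : q ∈ P.Q) (hq1 : q ≠ 1) :
    Nat.card (centralizer ({q} : Set G)) = 2688 :=
  P.hcz q (P.orderOf_eq_two hq hq1)

theorem five_free [IsPretransitive G Ω] {x q : G} (hx : orderOf x = 5) (hq : q ∈ P.Q)
    (hxq : Commute x q) : q = 1 := by
  by_contra hq1
  haveI := P.finite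
  have h : orderOf x ∣ Nat.card (centralizer ({q} : Set G)) :=
    orderOf_dvd_natCard _ (mem_centralizer_singleton_iff.2 hxq.eq)
  rw [hx, P.card_cent hq hq1] at h
  norm_num at h

/-- An element of order 7 of `N(Q)` normalises no subgroup of order divisible by 5 and prime to 7. -/
theorem no_seven [IsPretransitive G Ω] {s : G} (hs : s ∈ P.H) (hs7 : orderOf s = 7)
    {N : Subgroup G} (hN : N ≤ P.H) (hsN : s ∈ normalizer (N : Set G)) (h5 : 5 ∣ Nat.card N)
    (h7 : ¬ 7 ∣ Nat.card N) : False := by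
  classical
  haveI := P.finite
  haveI : Fact (Nat.Prime 5) := ⟨by norm_num⟩
  haveI : Fact (Nat.Prime 7) := ⟨by norm_num⟩
  have hsn : s ∉ N := fun h => h7 (hs7 ▸ orderOf_dvd_natCard N h)
  let S : Sylow 5 N := default
  obtain ⟨t, htM, ht7, htS⟩ := exists_prime_normalizes (r := 7)
    (M := P.H ⊓ normalizer (N : Set G)) (le_inf hN le_normalizer) inf_le_right S ⟨hs, hsN⟩ hs7 hsn
  set X : Subgroup G := (S : Subgroup N).map N.subtype with hX
  have hXc : Nat.card X = 5 := by
    rw [hX, Subgroup.card_subtype]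
    obtain ⟨k, hk⟩ := IsPGroup.iff_card.1 S.isPGroup'
    have hd : 5 ^ k ∣ 40320 := by
      rw [← hk, ← P.card_H]
      exact (Subgroup.card_subgroup_dvd_card _).trans (Subgroup.card_dvd_of_le hN)
    have h1 : 5 ∣ Nat.card (S : Subgroup N) := S.dvd_card_of_dvd_card h5
    rw [hk] at h1 ⊢
    rcases k with _ | _ | k
    · norm_num at h1
    · norm_num
    · exfalso
      have : 25 ∣ 40320 := (Dvd.intro_left (5 ^ k) (show 5 ^ k * 25 = 5 ^ (k + 1 + 1) by ring)).trans hd
      norm_num at this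
  have ht1 : t ^ 7 = 1 := ht7 ▸ pow_orderOf_eq_one t
  obtain ⟨x, hxX, hx1, htx⟩ := exists_commute_of_normalizes ht1 htS (by rw [hXc]; norm_num)
  have hx5 : orderOf x = 5 := by
    rcases (Nat.dvd_prime (by norm_num)).1 (hXc ▸ orderOf_dvd_natCard X hxX) with h | h
    · exact absurd (orderOf_eq_one_iff.1 h) hx1
    · exact h
  have hxH : x ∈ P.H := hN (map_subtype_le _ hxX)
  have htH : t ∈ P.H := htM.1
  set F : Subgroup G := P.Q ⊓ centralizer ({t} : Set G) with hF
  have hxF : x ∈ normalizer (F : Set G) := by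
    have key : ∀ y : G, y ∈ P.H → Commute t y → ∀ f ∈ F, y * f * y⁻¹ ∈ F := by
      intro y hy hty f hf
      refine ⟨P.conj_mem hy hf.1, mem_centralizer_singleton_iff.2 ?_⟩
      have h2 : Commute t f := (mem_centralizer_singleton_iff.1 hf.2).symm
      exact ((hty.mul_right h2).mul_right hty.inv_right).eq.symm
    refine mem_normalizer_iff.2 fun f => ⟨key x hxH htx f, fun h => ?_⟩
    have := key x⁻¹ (inv_mem hxH) htx.inv_right _ h
    simpa [mul_assoc] using this
  have hFd : Nat.card F ∣ 16 := P.hQ ▸ Subgroup.card_dvd_of_le inf_le_left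
  obtain ⟨f, hf, hf1, htf⟩ := exists_commute_of_normalizes ht1 (U := P.Q) htH
    (by rw [P.hQ]; norm_num)
  have hfF : f ∈ F := ⟨hf, mem_centralizer_singleton_iff.2 htf.symm.eq⟩
  have hF1 : Nat.card F ≠ 1 := fun h => by
    rw [Subgroup.card_eq_one] at h
    rw [h, Subgroup.mem_bot] at hfF
    exact hf1 hfF
  by_cases h5F : 5 ∣ Nat.card F - 1
  · have hF16 : Nat.card F = 16 := by
      obtain ⟨i, hi, he⟩ := (Nat.dvd_prime_pow Nat.prime_two).1
        (show Nat.card F ∣ 2 ^ 4 by norm_num; exact hFd)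
      interval_cases i <;> simp_all
    have hFQ : F = P.Q := Subgroup.eq_of_le_of_card_ge inf_le_left (by rw [hF16, P.hQ])
    have htQ : t ∈ P.Q := by
      rw [← P.hCQ]
      refine mem_centralizer_iff.2 fun q hq => ?_
      have : q ∈ F := by rw [hFQ]; exact hq
      exact mem_centralizer_singleton_iff.1 this.2
    have := ht7 ▸ orderOf_dvd_natCard P.Q htQ
    rw [P.hQ] at this
    norm_num at this
  · obtain ⟨g, hg, hg1, hxg⟩ := exists_commute_of_normalizes
      (hx5 ▸ pow_orderOf_eq_one x) hxF h5F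
    exact hg1 (P.five_free hx5 hg.1 hxg)

/-- A normal subgroup of `N(Q)` of order prime to 5 and 7 lies in `Q`. -/
theorem normal_le [IsPretransitive G Ω] {N : Subgroup G} (hN : N ≤ P.H)
    (hnor : ∀ h ∈ P.H, ∀ n ∈ N, h * n * h⁻¹ ∈ N) (h5 : ¬ 5 ∣ Nat.card N)
    (_h7 : ¬ 7 ∣ Nat.card N) : N ≤ P.Q := by
  classical
  haveI := P.finite
  haveI : Fact (Nat.Prime 7) := ⟨by norm_num⟩
  -- one nontrivial element of `Q` centralised by `N` suffices
  suffices hone : ∃ q ∈ P.Q, q ≠ 1 ∧ ∀ n ∈ N, Commute n q by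
    obtain ⟨q, hq, hq1, hnq⟩ := hone
    intro n hn
    rw [← P.hCQ]
    refine mem_centralizer_iff.2 fun r hr => ?_
    rcases eq_or_ne r 1 with rfl | hr1
    · simp
    obtain ⟨h, hh, rfl⟩ := P.conjugate hq hq1 hr hr1
    have h1 : h⁻¹ * n * h ∈ N := by
      have := hnor h⁻¹ (inv_mem hh) n hn
      rwa [inv_inv] at this
    calc h * q * h⁻¹ * n = h * (q * (h⁻¹ * n * h)) * h⁻¹ := by group
      _ = h * ((h⁻¹ * n * h) * q) * h⁻¹ := by rw [(hnq _ h1).eq]
      _ = n * (h * q * h⁻¹) := by group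
  letI : MulAction N G := MulAction.compHom G (ConjAct.toConjAct.toMonoidHom.comp N.subtype)
  have hsm : ∀ (n : N) (x : G), n • x = (n : G) * x * (n : G)⁻¹ := fun n x => rfl
  set Qs : Set G := (P.Q : Set G) \ {1} with hQs
  have h15 : Qs.ncard = 15 := by
    rw [hQs, Set.ncard_sdiff_singleton_of_mem P.Q.one_mem, ← Nat.card_coe_set_eq]
    show Nat.card P.Q - 1 = 15
    rw [P.hQ]
  have hsub : ∀ q ∈ Qs, orbit N q ⊆ Qs := by
    rintro q hq _ ⟨n, rfl⟩
    exact ⟨P.conj_mem (hN n.2) hq.1, fun e => hq.2 (conj_eq_one_iff.1 e)⟩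
  have hconst : ∀ q ∈ Qs, ∀ r ∈ Qs, (orbit N q).ncard = (orbit N r).ncard := by
    intro q hq r hr
    obtain ⟨h, hh, rfl⟩ := P.conjugate hq.1 hq.2 hr.1 hr.2
    rw [← Set.ncard_image_of_injective (orbit N q) (MulAut.conj h).injective]
    congr 1
    ext x
    constructor
    · rintro ⟨_, ⟨n, rfl⟩, rfl⟩
      refine ⟨⟨h * n * h⁻¹, hnor h hh n n.2⟩, ?_⟩
      show h * (n : G) * h⁻¹ * (h * q * h⁻¹) * (h * (n : G) * h⁻¹)⁻¹ =
        h * ((n : G) * q * (n : G)⁻¹) * h⁻¹
      group
    · rintro ⟨n, rfl⟩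
      have hn' : h⁻¹ * (n : G) * h ∈ N := by
        have := hnor h⁻¹ (inv_mem hh) n n.2
        rwa [inv_inv] at this
      refine ⟨_, ⟨⟨_, hn'⟩, rfl⟩, ?_⟩
      show h * (h⁻¹ * (n : G) * h * q * (h⁻¹ * (n : G) * h)⁻¹) * h⁻¹ =
        (n : G) * (h * q * h⁻¹) * (n : G)⁻¹
      group
  obtain ⟨s, hs⟩ := exists_prime_orderOf_dvd_card' (G := P.H) 7 (by rw [P.card_H]; norm_num)
  have hs7 : orderOf (s : G) = 7 := by rwa [Subgroup.orderOf_coe]
  obtain ⟨f, hf, hf1, hsf⟩ := exists_commute_of_normalizes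
    (hs7 ▸ pow_orderOf_eq_one (s : G)) (U := P.Q) s.2 (by rw [P.hQ]; norm_num)
  have hfQs : f ∈ Qs := ⟨hf, hf1⟩
  set t := (orbit N f).ncard with ht
  have htd : t ∣ Nat.card N := by
    rw [ht, ← index_stabilizer]
    exact Subgroup.index_dvd_card _
  by_cases h1 : t = 1
  · refine ⟨f, hf, hf1, fun n hn => ?_⟩
    obtain ⟨w, hw⟩ := Set.ncard_eq_one.1 h1
    have e1 : f ∈ orbit N f := mem_orbit_self f
    have e2 : n * f * n⁻¹ ∈ orbit N f := ⟨⟨n, hn⟩, rfl⟩
    rw [hw, Set.mem_singleton_iff] at e1 e2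
    exact mul_inv_eq_iff_eq_mul.1 (e2.trans e1.symm)
  exfalso
  -- the orbits are equal, so their size divides fifteen
  have ht8 : t ≤ 15 := h15 ▸ Set.ncard_le_ncard (hsub f hfQs) (Set.toFinite _)
  have hdvd : t ∣ 15 := by
    let X : SubMulAction N G := { carrier := Qs, smul_mem' := fun n q hq => hsub q hq ⟨n, rfl⟩ }
    haveI : Fintype (Quotient (MulAction.orbitRel N X)) := Fintype.ofFinite _
    have hX : Nat.card X = 15 := h15
    rw [← hX, Nat.card_congr (MulAction.selfEquivSigmaOrbits N X), Nat.card_sigma]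
    refine Finset.dvd_sum fun ω _ => ?_
    refine dvd_of_eq ?_
    rw [ht, hconst f hfQs _ ω.out.2, Nat.card_coe_set_eq,
      ← Set.ncard_image_of_injective _ Subtype.val_injective]
    congr 1
    exact (SubMulAction.val_image_orbit ω.out).symm
  have h5' : ¬ 5 ∣ t := fun h => h5 (h.trans htd)
  have h3 : t = 3 := by
    have : t ∈ Nat.divisors 15 := Nat.mem_divisors.2 ⟨hdvd, by norm_num⟩
    rw [show Nat.divisors 15 = {1, 3, 5, 15} by decide] at this
    simp only [Finset.mem_insert, Finset.mem_singleton] at this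
    rcases this with h | h | h | h
    · exact absurd h h1
    · exact h
    · exact absurd (h ▸ dvd_refl t) h5'
    · exact absurd (h ▸ (show 5 ∣ 15 by norm_num)) h5'
  -- an element of order seven fixes the orbit of `f` pointwise
  have hsN : (s : G) ∈ normalizer (N : Set G) := by
    refine mem_normalizer_iff.2 fun n => ⟨hnor _ s.2 n, fun h => ?_⟩
    have := hnor _ (inv_mem s.2) _ h
    simpa [mul_assoc] using this
  have hall : ∀ x ∈ orbit N f, Commute (s : G) x := by
    let ι := {x : G // x ∈ orbit N f}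
    letI : Fintype ι := Fintype.ofFinite _
    have hmap : ∀ x, x ∈ orbit N f → (s : G) * x * (s : G)⁻¹ ∈ orbit N f := by
      rintro _ ⟨n, rfl⟩
      refine ⟨⟨(s : G) * n * (s : G)⁻¹, hnor _ s.2 n n.2⟩, ?_⟩
      have e : (s : G) * f * (s : G)⁻¹ = f := mul_inv_eq_iff_eq_mul.2 hsf.eq
      show (s : G) * (n : G) * (s : G)⁻¹ * f * ((s : G) * (n : G) * (s : G)⁻¹)⁻¹ =
        (s : G) * ((n : G) * f * (n : G)⁻¹) * (s : G)⁻¹
      conv_lhs => rw [← e]
      group
    let σ : ι → ι := fun x => ⟨_, hmap x x.2⟩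
    have hσi : Function.Injective σ := fun x y hxy =>
      Subtype.ext (mul_left_cancel (mul_right_cancel (congrArg Subtype.val hxy)))
    let τ : Equiv.Perm ι := Equiv.ofBijective σ (Finite.injective_iff_bijective.1 hσi)
    have hpow : ∀ (n : ℕ) (x : ι), ((τ ^ n) x : G) = (s : G) ^ n * (x : G) * ((s : G) ^ n)⁻¹ := by
      intro n
      induction n with
      | zero => intro x; simp
      | succ n ih =>
        intro x
        rw [pow_succ', Equiv.Perm.mul_apply]
        show (s : G) * ((τ ^ n) x : G) * (s : G)⁻¹ = _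
        rw [ih, pow_succ']
        group
    have hτ7 : τ ^ 7 = 1 := Equiv.ext fun x => Subtype.ext (by
      rw [hpow, ← hs7, pow_orderOf_eq_one, inv_one, mul_one, one_mul]; rfl)
    have hτ : τ = 1 := by
      have hd : orderOf τ ∣ Nat.card (Equiv.Perm ι) := orderOf_dvd_natCard τ
      rw [Nat.card_perm, show Nat.card ι = 3 from (Nat.card_coe_set_eq _).trans h3] at hd
      rcases (Nat.dvd_prime (by norm_num)).1 (orderOf_dvd_of_pow_eq_one hτ7) with h | h
      · exact orderOf_eq_one_iff.1 h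
      · rw [h] at hd; norm_num [Nat.factorial] at hd
    intro x hx
    have := congrArg Subtype.val (Equiv.congr_fun hτ ⟨x, hx⟩)
    exact mul_inv_eq_iff_eq_mul.1 this
  -- but it fixes only one element of `Q` besides the identity
  set F : Subgroup G := P.Q ⊓ centralizer ({(s : G)} : Set G) with hF
  have hFsub : orbit N f ⊆ (F : Set G) \ {1} := fun x hx =>
    ⟨⟨(hsub f hfQs hx).1, mem_centralizer_singleton_iff.2 (hall x hx).symm.eq⟩,
      (hsub f hfQs hx).2⟩
  have hFcard : Nat.card F ≠ 16 := fun h16 => by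
    have hFQ : F = P.Q := Subgroup.eq_of_le_of_card_ge inf_le_left (by rw [h16, P.hQ])
    have htQ : (s : G) ∈ P.Q := by
      rw [← P.hCQ]
      refine mem_centralizer_iff.2 fun q hq => ?_
      have : q ∈ F := by rw [hFQ]; exact hq
      exact mem_centralizer_singleton_iff.1 this.2
    have := hs7 ▸ orderOf_dvd_natCard P.Q htQ
    rw [P.hQ] at this
    norm_num at this
  have hge : 4 ≤ Nat.card F := by
    have := Set.ncard_le_ncard hFsub (Set.toFinite _)
    rw [Set.ncard_sdiff_singleton_of_mem F.one_mem, ← ht, h3,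
      ← Nat.card_coe_set_eq (F : Set G)] at this
    change 3 ≤ Nat.card F - 1 at this
    omega
  -- the fixed points of `s` outside `F` come in sevens
  have hmod : Nat.card F % 7 = 2 := by
    letI : MulAction (zpowers (s : G)) G :=
      MulAction.compHom G (ConjAct.toConjAct.toMonoidHom.comp (zpowers (s : G)).subtype)
    let X : SubMulAction (zpowers (s : G)) G :=
      { carrier := P.Q
        smul_mem' := fun t q hq =>
          P.conj_mem ((Subgroup.zpowers_le (H := P.H)).2 s.2 t.2) hq }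
    have hp : IsPGroup 7 (zpowers (s : G)) :=
      IsPGroup.of_card (n := 1) (by rw [Nat.card_zpowers, hs7, pow_one])
    have h := hp.card_modEq_card_fixedPoints X
    rw [show Nat.card X = 16 from P.hQ] at h
    have hc : Nat.card (fixedPoints (zpowers (s : G)) X) = Nat.card F :=
      Nat.card_congr
        { toFun := fun x => ⟨x.1.1, x.1.2, mem_centralizer_singleton_iff.2
            (mul_inv_eq_iff_eq_mul.1 (congrArg Subtype.val (x.2 ⟨_, mem_zpowers _⟩))).symm⟩
          invFun := fun x => ⟨⟨x.1, x.2.1⟩, fun t => Subtype.ext (by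
            obtain ⟨t, k, rfl⟩ := t
            have hc : Commute (s : G) x.1 := (mem_centralizer_singleton_iff.1 x.2.2).symm
            exact mul_inv_eq_iff_eq_mul.2 (hc.zpow_left k).eq)⟩
          left_inv := fun x => rfl
          right_inv := fun x => rfl }
    rw [hc] at h
    have h' : 16 % 7 = Nat.card F % 7 := h
    omega
  have hFd : Nat.card F ∣ 16 := P.hQ ▸ Subgroup.card_dvd_of_le inf_le_left
  obtain ⟨i, hi, he⟩ := (Nat.dvd_prime_pow Nat.prime_two).1
    (show Nat.card F ∣ 2 ^ 4 by norm_num; exact hFd)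
  rw [he] at hFcard hge hmod
  interval_cases i <;> omega

end Setting

end Cfsg.Agent.H67.MTwentyThree
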