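import Cfsg.Agent.H67.MTwentyThree.Pattern
import Cfsg.Prelude.Def_Sporadic_a

/-!
The subgroup of index 23, the 23 points and the Steiner system S(4,7,23).
-/

set_option autoImplicit false
set_option linter.style.haveILetI false
set_option linter.unusedSectionVars false
set_option maxRecDepth 20000

open scoped Classical

namespace Cfsg.Agent.H67.MTwentyThree

open MulAction Subgroup

universe u v

namespace Suborbits

variable {G : Type u} [Group G] {Ω : Type v} [MulAction G Ω] [IsPretransitive G Ω] [Fintype Ω]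
  {P : Setting G Ω} (S : Suborbits P)

/-- The projection of the orbit of `b`. -/
noncomputable abbrev phi0 (y : Ω) : ℤ := S.phi (S.qorb S.b) y

/-- Its stabiliser. -/
def Kp (S : Suborbits P) : Subgroup G where
  carrier := {g | ∀ y, S.phi0 (g • y) = S.phi0 y}
  one_mem' := fun y => by rw [one_smul]
  mul_mem' := by
    intro g h hg hh y
    rw [mul_smul, hg, hh]
  inv_mem' := by
    intro g hg y
    rw [← hg (g⁻¹ • y), smul_inv_smul]

theorem phi0_H {h : G} (hh : h ∈ P.H) (y : Ω) :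
    S.phi (S.qorb (h • S.b)) (h • y) = S.phi0 y := by
  rw [S.qorb_smul hh, S.phi_smul hh]

theorem T_le_Kp : S.T ≤ S.Kp := by
  intro t ht y
  have h := S.phi0_H ht.1 y
  rwa [(S.mem_T ht.1).1 ht] at h

theorem mem_T_of_Kp {h : G} (hh : h ∈ P.H) (hk : h ∈ S.Kp) : h ∈ S.T := by
  rw [S.mem_T hh, S.qorb_eq_iff]
  have h1 : S.phi0 (h • S.b) = 128 := by
    rw [hk]
    show S.phi (S.qorb S.b) S.b = 128
    rw [S.phi_b (S.qorb_mem S.b_mem), if_pos (S.self_mem_qorb _)]
  rw [phi0, S.phi_near (S.qorb_mem S.b_mem) ((S.smul_nb_a hh).2 S.b_mem)] at h1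
  by_contra hn
  rw [if_neg hn] at h1
  norm_num at h1

/-- The swap stabilises the projection. -/
theorem u_mem : S.u ∈ S.Kp := by
  haveI := P.finite
  set O := S.qorb S.b with hO'
  have hO : O ∈ S.orbs := S.qorb_mem S.b_mem
  set F : Ω → ℤ := fun y => S.phi O (S.u • y) with hF
  have hsum : ∀ f : Ω → ℤ, ∑ y, f (S.u • y) = ∑ y, f y := fun f =>
    Equiv.sum_comp (MulAction.toPerm S.u) f
  have hFE : ∀ v, ∑ y, F y * S.M y v = 644 * F v := by
    intro v
    simp only [hF]
    rw [← S.phi_eigen O (S.u • v), ← hsum fun y => S.phi O y * S.M y (S.u • v)]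
    simp only [S.M_smul]
  have hF0 : ∑ y, F y = 0 := (hsum (S.phi O)).trans (S.sum_phi O)
  have hFa : F P.a = 128 := by
    show S.phi O (S.u • P.a) = 128
    rw [S.hua, S.phi_b hO, if_pos (S.self_mem_qorb _)]
  have hFb : F S.b = 128 := by
    show S.phi O (S.u • S.b) = 128
    rw [S.hub, S.phi_a hO]
  have hFL : ∀ l ∈ S.L, ∀ y, F (l • y) = F y := by
    intro l hl y
    have hua' : S.u⁻¹ • S.b = P.a := inv_smul_eq_iff.2 S.hua.symm
    have hub' : S.u⁻¹ • P.a = S.b := inv_smul_eq_iff.2 S.hub.symm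
    have hl' : S.u * l * S.u⁻¹ ∈ S.L := by
      refine ⟨P.mem_H.2 ?_, ?_⟩
      · rw [mul_smul, mul_smul, hub', S.smul_b hl, S.hub]
      · show (S.u * l * S.u⁻¹) • S.b = S.b
        rw [mul_smul, mul_smul, hua', P.smul_a hl.1, S.hua]
    have h := S.T_le_Kp (S.L_le_T hl') (S.u • y)
    show S.phi O (S.u • l • y) = S.phi O (S.u • y)
    rw [mul_smul, mul_smul, inv_smul_smul] at h
    exact h
  have hFv : ∀ y, F y = 128 ∨ F y = -56 := fun y => S.phi_values hO _
  -- sixteen neighbours of the base point have value 128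
  have hN : ((S.nb P.a).filter fun y => F y = 128).card = 16 := by
    have h := hFE P.a
    simp only [M, mul_sub, mul_add, Finset.sum_sub_distrib, Finset.sum_add_distrib,
      ← Finset.sum_mul, hF0, mul_ite, mul_one, mul_zero, Finset.sum_ite_eq', Finset.mem_univ,
      if_true, ← Finset.sum_filter] at h
    rw [show (Finset.univ.filter fun y => S.Adj y P.a) = S.nb P.a by
      ext v; simp [S.mem_nb, S.adj_comm (x := v) (y := P.a)], hFa] at h
    rw [← Finset.sum_filter_add_sum_filter_not (S.nb P.a) (fun y => F y = 128)] at h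
    have hA : ∀ y ∈ (S.nb P.a).filter (fun y => F y = 128), F y = 128 := fun y hy =>
      (Finset.mem_filter.1 hy).2
    have hB : ∀ y ∈ (S.nb P.a).filter (fun y => ¬ F y = 128), F y = -56 := fun y hy =>
      (hFv y).resolve_left (Finset.mem_filter.1 hy).2
    rw [Finset.sum_congr rfl hA, Finset.sum_congr rfl hB, Finset.sum_const, Finset.sum_const,
      nsmul_eq_mul, nsmul_eq_mul] at h
    have hc := Finset.card_filter_add_card_filter_not (s := S.nb P.a) (fun y => F y = 128)
    rw [S.card_nb] at hc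
    omega
  -- hence the whole orbit of `b`
  have hall : ∀ y ∈ O, F y = 128 := by
    intro y hy
    obtain ⟨q, hq, rfl⟩ := S.mem_qorb.1 hy
    rcases eq_or_ne q 1 with rfl | hq1
    · rw [one_smul]; exact hFb
    by_contra hne
    have hrest : O.filter (fun y => F y = 128) = {S.b} := by
      ext w
      rw [Finset.mem_filter, Finset.mem_singleton]
      refine ⟨fun ⟨hw, hFw⟩ => ?_, fun e => e ▸ ⟨S.self_mem_qorb _, hFb⟩⟩
      obtain ⟨r, hr, rfl⟩ := S.mem_qorb.1 hw
      by_contra hrb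
      obtain ⟨l, hl, hlr⟩ := S.trans_Q hq hq1 hr (fun e => hrb (by rw [e, one_smul]))
      apply hne
      rw [← hFL l hl (q • S.b)]
      rw [← hlr, mul_smul, mul_smul, S.smul_b (inv_mem hl)] at hFw
      exact hFw
    have hcnt := S.sum_nb fun y => if F y = 128 then 1 else 0
    simp only [Finset.sum_boole, Nat.cast_id] at hcnt
    rw [hN, ← Finset.add_sum_erase _ _ hO, hrest, Finset.card_singleton] at hcnt
    obtain ⟨z, hz, hzb⟩ := S.exists_other
    have hconst : ∀ O' ∈ S.orbs.erase O, (O'.filter fun y => F y = 128).card =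
        ((S.qorb z).filter fun y => F y = 128).card := by
      intro O' hO'
      obtain ⟨hne', hm⟩ := Finset.mem_erase.1 hO'
      obtain ⟨w, hw, rfl⟩ := Finset.mem_image.1 hm
      obtain ⟨l, hl, hlw⟩ := S.trans_other hz hw hzb (fun e => hne' (S.qorb_eq e))
      rw [← S.qorb_eq hlw, S.qorb_smul hl.1, Finset.filter_image,
        Finset.card_image_of_injective _ (MulAction.injective l)]
      simp only [hFL l hl]
    rw [Finset.sum_congr rfl hconst, Finset.sum_const, Finset.card_erase_of_mem hO, S.card_orbs,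
      smul_eq_mul] at hcnt
    omega
  -- equality in the Cauchy-Schwarz inequality
  have hpair : ∑ y, F y * S.phi O y = 644 * 2816 := by
    rw [S.pairing O F hFE, hFa, Finset.sum_congr rfl hall, Finset.sum_const,
      S.card_qorb S.b_mem]
    norm_num
  have hFF : ∑ y, F y * F y = 644 * 2816 :=
    (hsum fun y => S.phi O y * S.phi O y).trans (S.norm_phi hO)
  have hz : ∑ y, (F y - S.phi O y) ^ 2 = 0 := by
    have e : ∀ y, (F y - S.phi O y) ^ 2 =
        F y * F y + S.phi O y * S.phi O y - 2 * (F y * S.phi O y) := fun y => by ring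
    simp only [e, Finset.sum_sub_distrib, Finset.sum_add_distrib, ← Finset.mul_sum, hFF, hpair,
      S.norm_phi hO]
    norm_num
  intro y
  have h := (Finset.sum_eq_zero_iff_of_nonneg fun v _ => sq_nonneg _).1 hz y (Finset.mem_univ y)
  exact sub_eq_zero.1 (sq_eq_zero_iff.1 h)

theorem dvd_four_of_qstable {s : Finset Ω} (hs : s ⊆ S.far)
    (hq : ∀ y ∈ s, S.qorb y ⊆ s) : 4 ∣ s.card := by
  rw [Finset.card_eq_sum_card_image S.qorb s]
  refine Finset.dvd_sum fun O hO => ?_
  obtain ⟨y, hy, rfl⟩ := Finset.mem_image.1 hO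
  have e : s.filter (fun z => S.qorb z = S.qorb y) = S.qorb y := by
    ext z
    rw [Finset.mem_filter, S.qorb_eq_iff]
    exact ⟨fun h => h.2, fun h => ⟨hq y hy h, h⟩⟩
  rw [e]
  have h := S.card_qorb_mul y
  rw [S.qfix_c y (S.mem_far.1 (hs hy))] at h
  omega

theorem card_128 : (Finset.univ.filter fun y => S.phi0 y = 128).card = 77 := by
  have h := S.sum_phi (S.qorb S.b)
  rw [← Finset.sum_filter_add_sum_filter_not Finset.univ (fun y => S.phi (S.qorb S.b) y = 128)]
    at h
  have hA : ∀ y ∈ Finset.univ.filter (fun y => S.phi (S.qorb S.b) y = 128),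
      S.phi (S.qorb S.b) y = 128 := fun y hy => (Finset.mem_filter.1 hy).2
  have hB : ∀ y ∈ Finset.univ.filter (fun y => ¬ S.phi (S.qorb S.b) y = 128),
      S.phi (S.qorb S.b) y = -56 := fun y hy =>
    (S.phi_values (S.qorb_mem S.b_mem) y).resolve_left (Finset.mem_filter.1 hy).2
  rw [Finset.sum_congr rfl hA, Finset.sum_congr rfl hB, Finset.sum_const, Finset.sum_const,
    nsmul_eq_mul, nsmul_eq_mul] at h
  have hc := Finset.card_filter_add_card_filter_not (s := (Finset.univ : Finset Ω))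
    (fun y => S.phi (S.qorb S.b) y = 128)
  rw [Finset.card_univ, card_Ω P] at hc
  show (Finset.univ.filter fun y => S.phi (S.qorb S.b) y = 128).card = 77
  omega

theorem Kp_orbit : Nat.card S.Kp = 443520 ∧
    ∀ y, S.phi0 y = 128 → ∃ k ∈ S.Kp, k • P.a = y := by
  haveI := P.finite
  set S0 := Finset.univ.filter fun y => S.phi0 y = 128 with hS0
  set Ob : Finset Ω := Finset.univ.filter (· ∈ orbit S.Kp P.a) with hOb
  have hmem : ∀ y, y ∈ Ob ↔ ∃ k ∈ S.Kp, k • P.a = y := by
    intro y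
    simp only [hOb, Finset.mem_filter, Finset.mem_univ, true_and]
    exact ⟨fun ⟨k, hk⟩ => ⟨k, k.2, hk⟩, fun ⟨k, hk, e⟩ => ⟨⟨k, hk⟩, e⟩⟩
  have hsub : Ob ⊆ S0 := fun y hy => by
    obtain ⟨k, hk, rfl⟩ := (hmem y).1 hy
    rw [hS0, Finset.mem_filter]
    exact ⟨Finset.mem_univ _, (hk P.a).trans (S.phi_a (S.qorb_mem S.b_mem))⟩
  have hq : ∀ q ∈ P.Q, ∀ y ∈ Ob, q • y ∈ Ob := fun q hq y hy => by
    obtain ⟨k, hk, rfl⟩ := (hmem y).1 hy
    exact (hmem _).2 ⟨q * k, mul_mem (S.T_le_Kp (S.Q_le_T hq)) hk, mul_smul q k P.a⟩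
  have hb : S.b ∈ Ob := (hmem _).2 ⟨S.u, S.u_mem, S.hua⟩
  have hbig : insert P.a (S.qorb S.b) ⊆ Ob := by
    intro y hy
    rcases Finset.mem_insert.1 hy with rfl | hy
    · exact (hmem _).2 ⟨1, one_mem _, one_smul _ _⟩
    · obtain ⟨q, hq', rfl⟩ := S.mem_qorb.1 hy
      exact hq q hq' _ hb
  have h17 : (insert P.a (S.qorb S.b)).card = 17 := by
    rw [Finset.card_insert_of_notMem (fun h => S.a_notMem_nb (S.qorb_subset S.b_mem h)),
      S.card_qorb S.b_mem]
  have hge : 17 ≤ Ob.card := h17 ▸ Finset.card_le_card hbig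
  have hle : Ob.card ≤ 77 := S.card_128 ▸ Finset.card_le_card hsub
  have hmul : Ob.card * 5760 = Nat.card S.Kp := by
    have h := (stabilizer S.Kp P.a).card_mul_index
    have e : stabilizer S.Kp P.a = S.T.subgroupOf S.Kp := by
      ext k
      rw [mem_stabilizer_iff, mem_subgroupOf]
      exact ⟨fun hk => S.mem_T_of_Kp (P.mem_H.2 hk) k.2, fun hk => P.smul_a hk.1⟩
    rw [index_stabilizer, e, Nat.card_congr (subgroupOfEquivOfLe S.T_le_Kp).toEquiv, S.card_T]
      at h
    rw [← h, mul_comm, ← Set.ncard_coe_finset]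
    congr 2
    ext y; simp [hOb]
  have hdvd : Ob.card ∣ 1771 := by
    have h : Ob.card * 5760 ∣ 1771 * 5760 :=
      hmul ▸ (Subgroup.card_subgroup_dvd_card S.Kp).trans (dvd_of_eq P.hG)
    exact Nat.dvd_of_mul_dvd_mul_right (by norm_num) h
  have hne : Ob.card ≠ 23 := by
    intro h23
    set R := Ob \ insert P.a (S.qorb S.b) with hR
    have hRc : R.card = 6 := by
      rw [hR, Finset.card_sdiff_of_subset hbig, h23, h17]
    have hRfar : R ⊆ S.far := by
      intro y hy
      obtain ⟨h1, h2⟩ := Finset.mem_sdiff.1 hy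
      rw [Finset.mem_insert, not_or] at h2
      rcases S.cases_pt y with h | h | h
      · exact absurd h h2.1
      · exfalso
        have h128 := (Finset.mem_filter.1 (hsub h1)).2
        rw [phi0, S.phi_near (S.qorb_mem S.b_mem) h, if_neg h2.2] at h128
        norm_num at h128
      · exact h
    have h4 := S.dvd_four_of_qstable hRfar fun y hy z hz => by
      obtain ⟨h1, h2⟩ := Finset.mem_sdiff.1 hy
      obtain ⟨q, hq', rfl⟩ := S.mem_qorb.1 hz
      refine Finset.mem_sdiff.2 ⟨hq q hq' y h1, fun h => h2 ?_⟩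
      rcases Finset.mem_insert.1 h with h | h
      · exact Finset.mem_insert.2 (Or.inl (smul_left_cancel q (h.trans (P.smul_a (P.Q_le hq')).symm)))
      · refine Finset.mem_insert.2 (Or.inr ?_)
        rw [← S.qorb_eq h]
        exact S.mem_qorb.2 ⟨q⁻¹, inv_mem hq', inv_smul_smul q y⟩
    rw [hRc] at h4
    norm_num at h4
  have h77 : Ob.card = 77 := by
    have key : ((List.range 78).all fun n =>
        1771 % n != 0 || decide (n < 17) || n == 23 || n == 77) = true := by decide +kernel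
    have h := List.all_eq_true.1 key Ob.card (List.mem_range.2 (by omega))
    simp only [Nat.dvd_iff_mod_eq_zero.1 hdvd, bne_self_eq_false, Bool.false_or, Bool.or_eq_true,
      decide_eq_true_eq, beq_iff_eq] at h
    omega
  refine ⟨by omega, fun y hy => (hmem y).1 ?_⟩
  rw [Finset.eq_of_subset_of_card_le hsub (by rw [h77, hS0, S.card_128])]
  exact Finset.mem_filter.2 ⟨Finset.mem_univ _, hy⟩

/-- The value of a point of the Steiner system at a block. -/
noncomputable def val (p : G ⧸ S.Kp) (y : Ω) : ℤ := S.phi0 (p.out⁻¹ • y)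

theorem val_mk (g : G) (y : Ω) : S.val (g : G ⧸ S.Kp) y = S.phi0 (g⁻¹ • y) := by
  obtain ⟨k, hk⟩ := QuotientGroup.mk_out_eq_mul S.Kp g
  rw [val, hk, mul_inv_rev, mul_smul, inv_mem k.2]

theorem val_smul (g : G) (p : G ⧸ S.Kp) (y : Ω) : S.val (g • p) (g • y) = S.val p y := by
  induction p using QuotientGroup.induction_on with
  | H x =>
    rw [show g • (x : G ⧸ S.Kp) = ((g * x : G) : G ⧸ S.Kp) from rfl, S.val_mk, S.val_mk,
      mul_inv_rev, mul_smul, inv_smul_smul]

theorem val_H {h : G} (hh : h ∈ P.H) (y : Ω) :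
    S.val (h : G ⧸ S.Kp) y = S.phi (S.qorb (h • S.b)) y := by
  rw [S.val_mk, ← S.phi0_H hh, smul_inv_smul]

theorem index_Kp : Nat.card (G ⧸ S.Kp) = 23 := by
  have h := S.Kp.card_mul_index
  rw [S.Kp_orbit.1, P.hG] at h
  rw [← Subgroup.index_eq_card]
  omega

/-- The block attached to a point of degree 253. -/
noncomputable def block [Fintype (G ⧸ S.Kp)] (y : Ω) : Finset (G ⧸ S.Kp) :=
  Finset.univ.filter fun p => S.val p y = 128

theorem block_smul [Fintype (G ⧸ S.Kp)] (g : G) (y : Ω) :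
    S.block (g • y) = (S.block y).image (g • ·) := by
  ext p
  simp only [block, Finset.mem_filter, Finset.mem_univ, true_and, Finset.mem_image]
  constructor
  · intro hp
    refine ⟨g⁻¹ • p, ?_, smul_inv_smul g p⟩
    rw [← hp, ← S.val_smul g (g⁻¹ • p) y, smul_inv_smul]
  · rintro ⟨q, hq, rfl⟩
    rw [S.val_smul, hq]

theorem card_block_inter [Fintype (G ⧸ S.Kp)] (y : Ω) :
    (S.block P.a ∩ S.block y).card = (S.orbs.filter fun O => S.phi O y = 128).card := by
  haveI := P.finite
  have hrep : ∀ O ∈ S.orbs, ∃ h ∈ P.H, S.qorb (h • S.b) = O := by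
    intro O hO
    obtain ⟨x, hx, rfl⟩ := Finset.mem_image.1 hO
    obtain ⟨⟨h, hh⟩, rfl⟩ := S.mem_nb_a.1 hx
    exact ⟨h, hh, rfl⟩
  choose rep hrepH hrepO using hrep
  have hpt : ∀ {h h' : G}, h ∈ P.H → h' ∈ P.H →
      ((h : G ⧸ S.Kp) = h' ↔ S.qorb (h • S.b) = S.qorb (h' • S.b)) := by
    intro h h' hh hh'
    rw [QuotientGroup.eq]
    have hm : h⁻¹ * h' ∈ P.H := mul_mem (inv_mem hh) hh'
    constructor
    · intro hk
      have h1 := (S.mem_T hm).1 (S.mem_T_of_Kp hm hk)
      have h2 := congrArg (fun O : Finset Ω => O.image (h • ·)) h1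
      simp only [← S.qorb_smul hh, mul_smul, smul_inv_smul] at h2
      exact h2.symm
    · intro he
      refine S.T_le_Kp ((S.mem_T hm).2 ?_)
      rw [mul_smul, S.qorb_smul (inv_mem hh), ← he, ← S.qorb_smul (inv_mem hh), inv_smul_smul]
  symm
  refine Finset.card_bij (fun O hO => ((rep O (Finset.mem_filter.1 hO).1 : G) : G ⧸ S.Kp))
    (fun O hO => ?_) (fun O hO O' hO' he => ?_) (fun p hp => ?_)
  · obtain ⟨hO1, hO2⟩ := Finset.mem_filter.1 hO
    simp only [block, Finset.mem_inter, Finset.mem_filter, Finset.mem_univ, true_and,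
      S.val_H (hrepH O hO1), hrepO O hO1]
    exact ⟨S.phi_a hO1, hO2⟩
  · have := (hpt (hrepH _ _) (hrepH _ _)).1 he
    rwa [hrepO, hrepO] at this
  · simp only [block, Finset.mem_inter, Finset.mem_filter, Finset.mem_univ, true_and] at hp
    obtain ⟨h1, h2⟩ := hp
    induction p using QuotientGroup.induction_on with
    | H g =>
      rw [S.val_mk] at h1
      obtain ⟨k, hk, hka⟩ := S.Kp_orbit.2 _ h1
      have hgk : g * k ∈ P.H := P.mem_H.2 (by rw [mul_smul, hka, smul_inv_smul])
      have hp' : ((g * k : G) : G ⧸ S.Kp) = (g : G ⧸ S.Kp) :=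
        QuotientGroup.mk_mul_of_mem g hk
      have hO : S.qorb ((g * k) • S.b) ∈ S.orbs :=
        S.qorb_mem ((S.smul_nb_a hgk).2 S.b_mem)
      refine ⟨S.qorb ((g * k) • S.b), Finset.mem_filter.2 ⟨hO, ?_⟩, ?_⟩
      · rw [← S.val_H hgk, hp', h2]
      · exact ((hpt (hrepH _ _) hgk).2 (hrepO _ _)).trans hp'

theorem block_inter [Fintype (G ⧸ S.Kp)] (x y : Ω) :
    (x = y ∧ (S.block x ∩ S.block y).card = 7) ∨
      (x ≠ y ∧ (S.block x ∩ S.block y).card ≤ 3) := by
  obtain ⟨g, rfl⟩ := exists_smul_eq G P.a x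
  obtain ⟨w, rfl⟩ : ∃ w, g • w = y := ⟨g⁻¹ • y, smul_inv_smul g y⟩
  rw [S.block_smul, S.block_smul, ← Finset.image_inter _ _ (MulAction.injective g),
    Finset.card_image_of_injective _ (MulAction.injective g), S.card_block_inter]
  rcases S.cases_pt w with h | h | h
  · refine Or.inl ⟨by rw [h], ?_⟩
    rw [Finset.filter_true_of_mem fun O hO => by rw [h]; exact S.phi_a hO, S.card_orbs]
  · refine Or.inr ⟨fun e => S.a_notMem_nb (smul_left_cancel g e ▸ h), ?_⟩
    refine le_trans (Finset.card_le_one.2 fun O hO O' hO' => ?_) (by norm_num)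
    obtain ⟨hO1, hO2⟩ := Finset.mem_filter.1 hO
    obtain ⟨hO1', hO2'⟩ := Finset.mem_filter.1 hO'
    rw [S.phi_near hO1 h] at hO2
    rw [S.phi_near hO1' h] at hO2'
    have hw : w ∈ O := by by_contra hn; rw [if_neg hn] at hO2; norm_num at hO2
    have hw' : w ∈ O' := by by_contra hn; rw [if_neg hn] at hO2'; norm_num at hO2'
    obtain ⟨a, -, rfl⟩ := Finset.mem_image.1 hO1
    obtain ⟨b, -, rfl⟩ := Finset.mem_image.1 hO1'
    rw [← S.qorb_eq hw, ← S.qorb_eq hw']
  · exact Or.inr ⟨fun e => (S.far_not h).1 (smul_left_cancel g e).symm, (S.card_orbs_128 h).le⟩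

theorem steiner [Fintype (G ⧸ S.Kp)] : Cfsg.IsSteinerSystem 4 7 (Set.range S.block) := by
  have hc : ∀ y, (S.block y).card = 7 := fun y => by
    rcases S.block_inter y y with ⟨-, h⟩ | ⟨h, -⟩
    · rwa [Finset.inter_self] at h
    · exact absurd rfl h
  have huniq : ∀ x y (s : Finset (G ⧸ S.Kp)), s.card = 4 → s ⊆ S.block x → s ⊆ S.block y →
      x = y := by
    intro x y s hs hx hy
    rcases S.block_inter x y with ⟨h, -⟩ | ⟨-, h⟩
    · exact h
    · have := (Finset.card_le_card (Finset.subset_inter hx hy)).trans h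
      omega
  refine ⟨by rintro _ ⟨y, rfl⟩; exact hc y, fun s hs => ?_⟩
  have hall : Finset.univ.biUnion (fun y => (S.block y).powersetCard 4) =
      (Finset.univ : Finset (G ⧸ S.Kp)).powersetCard 4 := by
    apply Finset.eq_of_subset_of_card_le
    · intro t ht
      obtain ⟨y, -, hy⟩ := Finset.mem_biUnion.1 ht
      exact Finset.mem_powersetCard.2 ⟨Finset.subset_univ _, (Finset.mem_powersetCard.1 hy).2⟩
    · rw [Finset.card_biUnion fun x _ y _ hxy => Finset.disjoint_left.2 fun t h1 h2 => hxy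
          (huniq x y t (Finset.mem_powersetCard.1 h1).2 (Finset.mem_powersetCard.1 h1).1
            (Finset.mem_powersetCard.1 h2).1)]
      simp only [Finset.card_powersetCard, hc, Finset.sum_const, Finset.card_univ, card_Ω P,
        ← Nat.card_eq_fintype_card (α := G ⧸ S.Kp), S.index_Kp]
      decide
  have hs' : s ∈ (Finset.univ : Finset (G ⧸ S.Kp)).powersetCard 4 :=
    Finset.mem_powersetCard.2 ⟨Finset.subset_univ _, hs⟩
  rw [← hall] at hs'
  obtain ⟨y, -, hy⟩ := Finset.mem_biUnion.1 hs'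
  have hsy := (Finset.mem_powersetCard.1 hy).1
  refine ⟨S.block y, ⟨⟨y, rfl⟩, hsy⟩, ?_⟩
  rintro _ ⟨⟨z, rfl⟩, hz⟩
  rw [huniq y z s hs hsy hz]

end Suborbits

end Cfsg.Agent.H67.MTwentyThree
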