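import Cfsg.Agent.H67.MTwentyThree.Rank
import Cfsg.Agent.H67.MTwentyThree.Points
import Cfsg.Agent.H29.SteinerAut
import Cfsg.Prelude.Def_Sporadic

/-!
A simple group of order 10200960 with the small degrees and involution column of M23 and a
self-centralising subgroup of order 16 whose normaliser has index 253 is M23.
-/

set_option autoImplicit false
set_option linter.style.haveILetI false

open scoped Classical Pointwise commutatorElement

namespace Cfsg.Agent.H67.MTwentyThree

open Cfsg MulAction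

universe u

theorem perfect {G : Type u} [Group G] [Finite G] (hG : Cfsg.IsM23 G) : commutator G = ⊤ := by
  haveI := hG.1
  rcases (inferInstance : (commutator G).Normal).eq_bot_or_eq_top with h | h
  · exfalso
    letI : CommGroup G :=
      { ‹Group G› with
        mul_comm := fun a b => by
          have : ⁅a, b⁆ ∈ commutator G :=
            Subgroup.commutator_mem_commutator (Subgroup.mem_top a) (Subgroup.mem_top b)
          rw [h, Subgroup.mem_bot] at this
          exact commutatorElement_eq_one_iff_mul_comm.1 this }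
    have hp := IsSimpleGroup.prime_card (α := G)
    rw [hG.2] at hp
    norm_num at hp
  · exact h

/-- The automorphism group of a Steiner system S(4,7,23) is M23. -/
theorem aut_iso {α : Type u} [Fintype α] [DecidableEq α] (hα : Fintype.card α = 23)
    {B : Set (Finset α)} (hB : Cfsg.IsSteinerSystem 4 7 B) :
    Nat.card (Cfsg.setSystemAut B) = 10200960 ∧
      Nonempty (Cfsg.setSystemAut B ≃* Cfsg.Spor.M23) := by
  refine ⟨(H29.steiner23_aut hα hB).1.2, ?_⟩
  obtain ⟨e, heX, he⟩ := H29.exists_embed23 hα hB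
  have hK : (Cfsg.setSystemAut B).map (Equiv.Perm.viaEmbeddingHom e) = Cfsg.Spor.M23 := by
    ext σ
    rw [H29.aut_map_viaEmbedding e he, H29.mem_M23_iff, heX]
    simp [H29.notMem_X23]
  obtain ⟨φ, -⟩ := H29.aut_equiv e hK
  exact ⟨φ⟩

/-- Identification of M23 from a subgroup of order sixteen. -/
theorem isoM23_of_local {G : Type u} [Group G] [Fintype G] (hG : Cfsg.IsM23 G)
    (hdeg : ∀ χ : IrrCharacter G, charDegree (χ : G → ℂ) ≠ 1 →
      charDegree (χ : G → ℂ) = 22 ∨ charDegree (χ : G → ℂ) = 45 ∨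
        charDegree (χ : G → ℂ) = 230 ∨ charDegree (χ : G → ℂ) = 231 ∨
          252 < charDegree (χ : G → ℂ))
    (hz : ∀ z : G, orderOf z = 2 → Nat.card (Subgroup.centralizer ({z} : Set G)) = 2688 ∧
      (∀ χ : IrrCharacter G, charDegree (χ : G → ℂ) = 22 → (χ : G → ℂ) z = 6) ∧
      (∀ χ : IrrCharacter G, charDegree (χ : G → ℂ) = 230 → (χ : G → ℂ) z = 22))
    (Q : Subgroup G) (hQ : Nat.card Q = 16) (hCQ : Subgroup.centralizer (Q : Set G) = Q)
    (hH : (Subgroup.normalizer (Q : Set G)).index = 253) : Spor.IsoM23 G := by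
  haveI := hG.1
  set H := Subgroup.normalizer (Q : Set G) with hHdef
  set a : G ⧸ H := ((1 : G) : G ⧸ H) with ha
  have hstab : stabilizer G a = H := stabilizer_quotient H
  have hN : Nat.card (G ⧸ H) = 253 := by rw [← Subgroup.index_eq_card, hH]
  haveI : Fintype (G ⧸ H) := Fintype.ofFinite _
  obtain ⟨hrank, hfix⟩ := rank_and_fixed (perfect hG) hdeg (Ω := G ⧸ H)
    (by rw [← Nat.card_eq_fintype_card, hN]) a
  let P : Setting G (G ⧸ H) :=
    { a := a
      Q := Q
      hG := hG.2
      hΩ := hN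
      hstab := hstab
      hQ := hQ
      hCQ := hCQ
      hcz := fun z h => (hz z h).1
      hfix := fun z h => hfix z (hz z h).2.1 (hz z h).2.2 }
  have hrank' : Nat.card (orbitRel.Quotient P.H (G ⧸ H)) = 3 :=
    (congrArg (fun K : Subgroup G => Nat.card (orbitRel.Quotient K (G ⧸ H))) hstab).symm.trans hrank
  obtain ⟨S⟩ := exists_suborbits P hrank'
  haveI : Fintype (G ⧸ S.Kp) := Fintype.ofFinite _
  have h23 : Fintype.card (G ⧸ S.Kp) = 23 := by rw [← Nat.card_eq_fintype_card, S.index_Kp]
  set B : Set (Finset (G ⧸ S.Kp)) := Set.range S.block with hB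
  obtain ⟨hcard, ⟨e⟩⟩ := aut_iso h23 S.steiner
  have hmem : ∀ g : G, (MulAction.toPermHom G (G ⧸ S.Kp) g) ∈ Cfsg.setSystemAut B := by
    intro g
    rw [MulAction.mem_stabilizer_iff]
    have hsm : ∀ y, (MulAction.toPermHom G (G ⧸ S.Kp) g) • S.block y = S.block (g • y) := by
      intro y
      rw [S.block_smul, Finset.smul_finset_def]
      rfl
    apply Set.Subset.antisymm
    · rintro _ ⟨_, ⟨y, rfl⟩, rfl⟩
      exact ⟨g • y, (hsm y).symm⟩
    · rintro _ ⟨y, rfl⟩
      exact ⟨S.block (g⁻¹ • y), ⟨_, rfl⟩, (hsm _).trans (by rw [smul_inv_smul])⟩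
  let φ : G →* Cfsg.setSystemAut B :=
    (MulAction.toPermHom G (G ⧸ S.Kp)).codRestrict (Cfsg.setSystemAut B) hmem
  have hφ : Function.Injective φ := by
    rw [← MonoidHom.ker_eq_bot_iff]
    refine φ.normal_ker.eq_bot_or_eq_top.resolve_right fun h => ?_
    have hsub : Subsingleton (G ⧸ S.Kp) := by
      refine ⟨fun p q => ?_⟩
      obtain ⟨g, rfl⟩ := exists_smul_eq G p q
      have hk : φ g = 1 := MonoidHom.mem_ker.1 (h.symm ▸ Subgroup.mem_top g)
      have h2 := congrArg Subtype.val hk
      have h3 : (MulAction.toPermHom G (G ⧸ S.Kp) g) p = p :=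
        Equiv.congr_fun (h2 : (MulAction.toPermHom G (G ⧸ S.Kp) g) = 1) p
      exact h3.symm
    have := Fintype.card_le_one_iff_subsingleton.2 hsub
    omega
  have hbij : Function.Bijective φ :=
    (Nat.bijective_iff_injective_and_card φ).2 ⟨hφ, hG.2.trans hcard.symm⟩
  exact ⟨(MulEquiv.ofBijective φ hbij).trans e⟩

end Cfsg.Agent.H67.MTwentyThree
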