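import Cfsg.Agent.H67.MTwentyThree.Local

/-!
The suborbits have lengths 112 and 140: on the first `Q` is semiregular, on the second the
stabilisers in `Q` have order 4.
-/

set_option autoImplicit false
set_option linter.style.haveILetI false

namespace Cfsg.Agent.H67.MTwentyThree

open MulAction Subgroup

universe u v

theorem arith_cases (k w w' f : ℕ) (hk : k < 253) (hw : w = 0 ∨ w = 1 ∨ w = 3 ∨ w = 7 ∨ w = 15)
    (hw' : w' = 0 ∨ w' = 1 ∨ w' = 3 ∨ w' = 7 ∨ w' = 15) (hkd : k ∣ 40320)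
    (hld : 252 - k ∣ 40320) (h1 : k * w = 15 * f) (h2 : (252 - k) * w' = 15 * (28 - f))
    (hf : f ≤ 28) (hle : k ≤ 126) :
    (k = 12 ∧ w = 15) ∨ (k = 28 ∧ w = 15) ∨ (k = 60 ∧ w = 7) ∨
      (k = 112 ∧ w = 0 ∧ w' = 3) := by
  have key : ((List.range 127).all fun k =>
      40320 % k != 0 || 40320 % (252 - k) != 0 ||
        ([0, 1, 3, 7, 15].all fun w => k * w % 15 != 0 || ([0, 1, 3, 7, 15].all fun w' =>
          (252 - k) * w' % 15 != 0 || k * w + (252 - k) * w' != 420 ||
            (k == 12 && w == 15) || (k == 28 && w == 15) || (k == 60 && w == 7) ||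
              (k == 112 && w == 0 && w' == 3)))) = true := by decide +kernel
  have hs : k * w + (252 - k) * w' = 420 := by omega
  have hm1 : k * w % 15 = 0 := by rw [h1]; exact Nat.mul_mod_right _ _
  have hm2 : (252 - k) * w' % 15 = 0 := by rw [h2]; exact Nat.mul_mod_right _ _
  have h := List.all_eq_true.1 key k (List.mem_range.2 (by omega))
  simp only [Nat.dvd_iff_mod_eq_zero.1 hkd, Nat.dvd_iff_mod_eq_zero.1 hld, bne_self_eq_false,
    Bool.false_or] at h
  have h' := List.all_eq_true.1 h w (by simp; tauto)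
  simp only [hm1, bne_self_eq_false, Bool.false_or] at h'
  have h'' := List.all_eq_true.1 h' w' (by simp; tauto)
  simp only [hm2, hs, bne_self_eq_false, Bool.false_or, Bool.or_eq_true, Bool.and_eq_true,
    beq_iff_eq] at h''
  tauto

namespace Setting

variable {G : Type u} [Group G] {Ω : Type v} [MulAction G Ω] (P : Setting G Ω)

/-- The stabiliser in `Q` of a point. -/
abbrev qfix (x : Ω) : Subgroup G := P.Q ⊓ stabilizer G x

theorem card_qfix_smul {h : G} (hh : h ∈ P.H) (x : Ω) :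
    Nat.card (P.qfix (h • x)) = Nat.card (P.qfix x) := by
  have e : P.qfix (h • x) = (P.qfix x).map (MulAut.conj h).toMonoidHom := by
    ext q
    constructor
    · rintro ⟨hq, hfx⟩
      refine ⟨h⁻¹ * q * h, ⟨P.conj_mem' hh hq, ?_⟩, ?_⟩
      · change q • h • x = h • x at hfx
        show (h⁻¹ * q * h) • x = x
        rw [mul_smul, mul_smul, hfx, inv_smul_smul]
      · simp [mul_assoc]
    · rintro ⟨r, ⟨hr, hrx⟩, rfl⟩
      refine ⟨P.conj_mem hh hr, ?_⟩
      change r • x = x at hrx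
      show (h * r * h⁻¹) • h • x = h • x
      rw [mul_smul, mul_smul, inv_smul_smul, hrx]
  rw [e, Subgroup.card_map_of_injective (MulAut.conj h).injective]

theorem qfix_cases (x : Ω) :
    Nat.card (P.qfix x) - 1 = 0 ∨ Nat.card (P.qfix x) - 1 = 1 ∨ Nat.card (P.qfix x) - 1 = 3 ∨
      Nat.card (P.qfix x) - 1 = 7 ∨ Nat.card (P.qfix x) - 1 = 15 := by
  haveI := P.finite
  have hd : Nat.card (P.qfix x) ∣ 16 := P.hQ ▸ Subgroup.card_dvd_of_le inf_le_left
  obtain ⟨i, hi, he⟩ := (Nat.dvd_prime_pow Nat.prime_two).1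
    (show Nat.card (P.qfix x) ∣ 2 ^ 4 by norm_num; exact hd)
  rw [he]
  interval_cases i <;> norm_num

theorem card_orbit_mul (x : Ω) [IsPretransitive G Ω] :
    Nat.card (orbit P.H x) * Nat.card (P.H ⊓ stabilizer G x : Subgroup G) = 40320 := by
  haveI := P.finite
  have h := (stabilizer P.H x).card_mul_index
  have e : stabilizer P.H x = (P.H ⊓ stabilizer G x).subgroupOf P.H := by
    ext h
    simp [mem_subgroupOf]
    rfl
  rw [index_stabilizer, P.card_H, e,
    Nat.card_congr (subgroupOfEquivOfLe (inf_le_left : P.H ⊓ stabilizer G x ≤ P.H)).toEquiv] at h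
  rw [Nat.card_coe_set_eq, mul_comm]
  exact h

/-- Counting pairs of a nontrivial element of `Q` and a point fixed by it. -/
theorem double_count [IsPretransitive G Ω] {z : G} (hz : z ∈ P.Q) (hz1 : z ≠ 1) (x : Ω) :
    Nat.card (orbit P.H x) * (Nat.card (P.qfix x) - 1) =
      15 * (orbit P.H x ∩ fixedBy Ω z).ncard := by
  classical
  haveI := P.finite
  haveI := P.finite'
  letI := Fintype.ofFinite G
  letI := Fintype.ofFinite Ω
  set S : Finset Ω := Finset.univ.filter (· ∈ orbit P.H x) with hS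
  set Qs : Finset G := Finset.univ.filter fun q => q ∈ P.Q ∧ q ≠ 1 with hQs
  have h15 : Qs.card = 15 := by
    have : Qs = (Finset.univ.filter fun q => q ∈ P.Q).erase 1 := by
      ext q; simp [hQs, and_comm]
    rw [this, Finset.card_erase_of_mem (by simp [P.Q.one_mem]), ← Fintype.card_subtype,
      ← Nat.card_eq_fintype_card]
    show Nat.card P.Q - 1 = 15
    rw [P.hQ]
  have h := Finset.sum_card_bipartiteAbove_eq_sum_card_bipartiteBelow (s := S) (t := Qs)
    (r := fun (y : Ω) (q : G) => q • y = y)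
  simp only [Finset.bipartiteAbove, Finset.bipartiteBelow] at h
  have hl : ∀ y ∈ S, (Qs.filter fun q => q • y = y).card = Nat.card (P.qfix x) - 1 := by
    intro y hy
    obtain ⟨k, rfl⟩ := (Finset.mem_filter.1 hy).2
    rw [← P.card_qfix_smul k.2 x]
    have : (Qs.filter fun q => q • ((k : G) • x) = (k : G) • x) =
        (Finset.univ.filter fun q => q ∈ P.qfix ((k : G) • x)).erase 1 := by
      ext q
      simp only [hQs, Finset.mem_filter, Finset.mem_univ, true_and, Finset.mem_erase,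
        Subgroup.mem_inf, mem_stabilizer_iff]
      tauto
    change (Qs.filter fun q => q • ((k : G) • x) = (k : G) • x).card = _
    rw [this, Finset.card_erase_of_mem (by simp), ← Fintype.card_subtype,
      ← Nat.card_eq_fintype_card]
  have hr : ∀ q ∈ Qs, (S.filter fun y => q • y = y).card = (orbit P.H x ∩ fixedBy Ω z).ncard := by
    intro q hq
    simp only [hQs, Finset.mem_filter, Finset.mem_univ, true_and] at hq
    obtain ⟨k, hk, rfl⟩ := P.conjugate hz hz1 hq.1 hq.2
    rw [← Set.ncard_image_of_injective (orbit P.H x ∩ fixedBy Ω z) (MulAction.injective k),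
      ← Set.ncard_coe_finset]
    congr 1
    ext y
    simp only [hS, Finset.coe_filter, Finset.mem_filter, Finset.mem_univ, true_and, Set.mem_image,
      Set.mem_inter_iff, MulAction.mem_fixedBy, Set.mem_ofPred_eq]
    constructor
    · rintro ⟨hy, hfy⟩
      refine ⟨k⁻¹ • y, ⟨?_, ?_⟩, smul_inv_smul k y⟩
      · obtain ⟨m, rfl⟩ := hy
        exact ⟨⟨k⁻¹, inv_mem hk⟩ * m, mul_smul k⁻¹ (m : G) x⟩
      · rw [mul_smul, mul_smul] at hfy
        exact smul_left_cancel k (by rw [hfy, smul_inv_smul])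
    · rintro ⟨w, ⟨hw, hzw⟩, rfl⟩
      refine ⟨?_, ?_⟩
      · obtain ⟨m, rfl⟩ := hw
        exact ⟨⟨k, hk⟩ * m, mul_smul k (m : G) x⟩
      · rw [mul_smul, mul_smul, inv_smul_smul, hzw]
  rw [Finset.sum_congr rfl hl, Finset.sum_congr rfl hr, Finset.sum_const, Finset.sum_const, h15,
    smul_eq_mul, smul_eq_mul] at h
  rw [← h, Nat.card_eq_fintype_card, Fintype.card_subtype]

/-- An element and its inverse move the base point into suborbits of the same length. -/
theorem card_orbit_inv [IsPretransitive G Ω] (g : G) :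
    Nat.card (orbit P.H (g⁻¹ • P.a)) = Nat.card (orbit P.H (g • P.a)) := by
  haveI := P.finite
  have e : (P.H ⊓ stabilizer G (g • P.a) : Subgroup G) =
      (P.H ⊓ stabilizer G (g⁻¹ • P.a)).map (MulAut.conj g).toMonoidHom := by
    ext x
    constructor
    · rintro ⟨h1, h2⟩
      refine ⟨g⁻¹ * x * g, ⟨?_, ?_⟩, by simp [mul_assoc]⟩
      · refine P.mem_H.2 ?_
        rw [mul_smul, mul_smul, show x • g • P.a = g • P.a from h2, inv_smul_smul]
      · show (g⁻¹ * x * g) • g⁻¹ • P.a = g⁻¹ • P.a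
        rw [mul_smul, mul_smul, smul_inv_smul, P.smul_a h1]
    · rintro ⟨y, ⟨h1, h2⟩, rfl⟩
      change y • g⁻¹ • P.a = g⁻¹ • P.a at h2
      refine ⟨?_, ?_⟩
      · refine P.mem_H.2 ?_
        show (g * y * g⁻¹) • P.a = P.a
        rw [mul_smul, mul_smul, h2, smul_inv_smul]
      · show (g * y * g⁻¹) • g • P.a = g • P.a
        rw [mul_smul, mul_smul, inv_smul_smul, P.smul_a h1]
  have h1 := P.card_orbit_mul (g⁻¹ • P.a)
  have h2 := P.card_orbit_mul (g • P.a)
  rw [e, Subgroup.card_map_of_injective (MulAut.conj g).injective] at h2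
  have hpos : 0 < Nat.card (P.H ⊓ stabilizer G (g⁻¹ • P.a) : Subgroup G) := Nat.card_pos
  exact Nat.eq_of_mul_eq_mul_right hpos (h1.trans h2.symm)

/-- A swap excludes too large stabilisers in `Q`. -/
theorem qfix_small [IsPretransitive G Ω] {g : G} {y : Ω} (hga : g • P.a = y) (hgy : g • y = P.a)
    (hz : ¬ 2688 ∣ Nat.card (P.H ⊓ stabilizer G y : Subgroup G)) :
    Nat.card (P.qfix y) * Nat.card (P.qfix y) ∣
      Nat.card (P.H ⊓ stabilizer G y : Subgroup G) := by
  haveI := P.finite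
  set L : Subgroup G := P.H ⊓ stabilizer G y with hL
  set A : Subgroup G := P.qfix y with hA
  set B : Subgroup G := A.map (MulAut.conj g).toMonoidHom with hB
  have hga' : g⁻¹ • y = P.a := inv_smul_eq_iff.2 hga.symm
  have hgy' : g⁻¹ • P.a = y := inv_smul_eq_iff.2 hgy.symm
  have hconjL : ∀ l ∈ L, g⁻¹ * l * g ∈ L := by
    rintro l ⟨h1, h2⟩
    change l • y = y at h2
    refine ⟨?_, ?_⟩
    · refine P.mem_H.2 ?_
      rw [mul_smul, mul_smul, hga, h2, hga']
    · show (g⁻¹ * l * g) • y = y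
      rw [mul_smul, mul_smul, hgy, P.smul_a h1, hgy']
  have hAL : A ≤ L := fun x hx => ⟨P.Q_le hx.1, hx.2⟩
  have hBL : B ≤ L := by
    rintro _ ⟨x, hx, rfl⟩
    refine ⟨?_, ?_⟩
    · refine P.mem_H.2 ?_
      show (g * x * g⁻¹) • P.a = P.a
      rw [mul_smul, mul_smul, hgy', show x • y = y from hx.2, hgy]
    · show (g * x * g⁻¹) • y = y
      rw [mul_smul, mul_smul, hga', P.smul_a (P.Q_le hx.1), hga]
  have hnA : ∀ l ∈ L, ∀ x ∈ A, l * x * l⁻¹ ∈ A := fun l hl x hx =>
    ⟨P.conj_mem hl.1 hx.1, (L.mul_mem (L.mul_mem hl (hAL hx)) (L.inv_mem hl)).2⟩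
  have hnB : ∀ l ∈ L, ∀ x ∈ B, l * x * l⁻¹ ∈ B := by
    rintro l hl _ ⟨x, hx, rfl⟩
    exact ⟨_, hnA _ (hconjL l hl) x hx, by simp [mul_assoc]⟩
  have hAB : ∀ x, x ∈ A → x ∈ B → x = 1 := by
    intro x hxA hxB
    by_contra hx1
    obtain ⟨q, hq, hqx⟩ := hxB
    change g * q * g⁻¹ = x at hqx
    have hq1 : q ≠ 1 := fun e => hx1 (by rw [← hqx, e, mul_one, mul_inv_cancel])
    apply hz
    rw [← P.card_cent hxA.1 hx1]
    refine Subgroup.card_dvd_of_le fun c hc => ⟨P.cent_le hxA.1 hx1 hc, ?_⟩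
    have hc' : g⁻¹ * c * g ∈ P.H := P.cent_le hq.1 hq1 (by
      rw [mem_centralizer_singleton_iff]
      have h := mem_centralizer_singleton_iff.1 hc
      rw [← hqx] at h
      calc g⁻¹ * c * g * q = g⁻¹ * (c * (g * q * g⁻¹)) * g := by group
        _ = g⁻¹ * ((g * q * g⁻¹) * c) * g := by rw [h]
        _ = q * (g⁻¹ * c * g) := by group)
    have := P.smul_a hc'
    rw [mul_smul, mul_smul, hga, inv_smul_eq_iff, hga] at this
    exact this
  have hcomm : ∀ x ∈ A, ∀ w ∈ B, Commute x w := by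
    intro x hx w hw
    have h1 : x * w * x⁻¹ * w⁻¹ = 1 := by
      refine hAB _ ?_ (B.mul_mem (hnB x (hAL hx) w hw) (B.inv_mem hw))
      rw [show x * w * x⁻¹ * w⁻¹ = x * (w * x⁻¹ * w⁻¹) by group]
      exact A.mul_mem hx (hnA w (hBL hw) _ (A.inv_mem hx))
    exact mul_inv_eq_iff_eq_mul.1 (mul_inv_eq_one.1 h1)
  let φ : A × B →* L :=
    { toFun := fun p => ⟨(p.1 : G) * (p.2 : G), L.mul_mem (hAL p.1.2) (hBL p.2.2)⟩
      map_one' := Subtype.ext (one_mul _)
      map_mul' := fun p q => Subtype.ext (Commute.mul_mul_mul_comm (hcomm _ q.1.2 _ p.2.2) _ _) }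
  have hφ : Function.Injective φ := by
    rw [← MonoidHom.ker_eq_bot_iff, Subgroup.eq_bot_iff_forall]
    rintro ⟨x, w⟩ h
    have h' : (x : G) * w = 1 := congrArg Subtype.val (MonoidHom.mem_ker.1 h)
    have hxw : (x : G) = (w : G)⁻¹ := eq_inv_of_mul_eq_one_left h'
    have hx1 : (x : G) = 1 := hAB _ x.2 (hxw ▸ B.inv_mem w.2)
    rw [hx1, one_mul] at h'
    exact Prod.ext (Subtype.ext hx1) (Subtype.ext h')
  have h := Subgroup.card_dvd_of_injective φ hφ
  rw [Nat.card_prod, hB, Subgroup.card_map_of_injective (MulAut.conj g).injective] at h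
  exact h

end Setting

/-- The two suborbits. -/
structure Suborbits {G : Type u} [Group G] {Ω : Type v} [MulAction G Ω] (P : Setting G Ω) where
  /-- A point at distance one. -/
  b : Ω
  /-- A point at distance two. -/
  c : Ω
  /-- A swap. -/
  u : G
  hua : u • P.a = b
  hub : u • b = P.a
  card_b : Nat.card (orbit P.H b) = 112
  card_c : Nat.card (orbit P.H c) = 140
  hall : ∀ x, x = P.a ∨ x ∈ orbit P.H b ∨ x ∈ orbit P.H c
  hba : P.a ∉ orbit P.H b
  hca : P.a ∉ orbit P.H c
  hbc : ∀ x, x ∈ orbit P.H b → x ∉ orbit P.H c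
  free_b : ∀ x ∈ orbit P.H b, ∀ q ∈ P.Q, q • x = x → q = 1
  qfix_c : ∀ x ∈ orbit P.H c, Nat.card (P.qfix x) = 4

theorem exists_suborbits {G : Type u} [Group G] {Ω : Type v} [MulAction G Ω] [IsPretransitive G Ω]
    (P : Setting G Ω) (hrank : Nat.card (orbitRel.Quotient P.H Ω) = 3) :
    Nonempty (Suborbits P) := by
  classical
  haveI := P.finite
  haveI := P.finite'
  haveI : Fintype (orbitRel.Quotient P.H Ω) := Fintype.ofFinite _
  let cls : Ω → orbitRel.Quotient P.H Ω := fun x => Quotient.mk'' x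
  have hcls : ∀ x y, cls x = cls y ↔ x ∈ orbit P.H y := fun x y => Quotient.eq''.trans orbitRel_apply
  have horba : orbit P.H P.a = {P.a} := by
    ext y
    constructor
    · rintro ⟨h, rfl⟩
      exact P.smul_a h.2
    · rintro rfl
      exact mem_orbit_self _
  rw [Nat.card_eq_fintype_card] at hrank
  obtain ⟨p, hp⟩ : ∃ p, p ≠ cls P.a := Fintype.exists_ne_of_one_lt_card (by omega) _
  obtain ⟨r, hr, hrp⟩ : ∃ r, r ≠ cls P.a ∧ r ≠ p := by
    obtain ⟨r, hr⟩ := Finset.exists_mem_notMem_of_card_lt_card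
      (s := {cls P.a, p}) (t := Finset.univ)
      (lt_of_le_of_lt Finset.card_le_two (by rw [Finset.card_univ, hrank]; norm_num))
    exact ⟨r, fun e => hr.2 (by simp [e]), fun e => hr.2 (by simp [e])⟩
  obtain ⟨x, rfl⟩ := Quotient.mk''_surjective p
  obtain ⟨y, rfl⟩ := Quotient.mk''_surjective r
  -- put the shorter suborbit first
  obtain ⟨b, c, hba', hca', hbc', hle⟩ : ∃ b c, cls b ≠ cls P.a ∧ cls c ≠ cls P.a ∧
      cls c ≠ cls b ∧ Nat.card (orbit P.H b) ≤ Nat.card (orbit P.H c) := by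
    rcases le_total (Nat.card (orbit P.H x)) (Nat.card (orbit P.H y)) with h | h
    · exact ⟨x, y, hp, hr, hrp, h⟩
    · exact ⟨y, x, hr, hp, Ne.symm hrp, h⟩
  have hall : ∀ w, w = P.a ∨ w ∈ orbit P.H b ∨ w ∈ orbit P.H c := by
    intro w
    have huniv : ({cls P.a, cls b, cls c} : Finset _) = Finset.univ := by
      apply Finset.eq_univ_of_card
      rw [hrank, Finset.card_eq_three.2 ⟨_, _, _, hba'.symm, hca'.symm, hbc'.symm, rfl⟩]
    have := huniv ▸ Finset.mem_univ (cls w)
    simp only [Finset.mem_insert, Finset.mem_singleton] at this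
    rcases this with h | h | h
    · refine Or.inl ?_
      have := (hcls _ _).1 h
      rwa [horba] at this
    · exact Or.inr (Or.inl ((hcls _ _).1 h))
    · exact Or.inr (Or.inr ((hcls _ _).1 h))
  have hba : P.a ∉ orbit P.H b := fun h => hba' ((hcls _ _).2 h).symm
  have hca : P.a ∉ orbit P.H c := fun h => hca' ((hcls _ _).2 h).symm
  have hbc : ∀ w, w ∈ orbit P.H b → w ∉ orbit P.H c := fun w h1 h2 =>
    hbc' (((hcls _ _).2 h2).symm.trans ((hcls _ _).2 h1))
  have hsplit : ∀ T : Set Ω, P.a ∈ T →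
      T.ncard = 1 + (orbit P.H b ∩ T).ncard + (orbit P.H c ∩ T).ncard := by
    intro T hT
    have e : T = insert P.a ((orbit P.H b ∩ T) ∪ (orbit P.H c ∩ T)) := by
      ext w
      constructor
      · intro hw
        rcases hall w with rfl | h | h
        · exact Set.mem_insert _ _
        · exact Or.inr (Or.inl ⟨h, hw⟩)
        · exact Or.inr (Or.inr ⟨h, hw⟩)
      · rintro (rfl | ⟨-, h⟩ | ⟨-, h⟩)
        exacts [hT, h, h]
    conv_lhs => rw [e]
    rw [Set.ncard_insert_of_notMem (by rintro (h | h); exacts [hba h.1, hca h.1]) (Set.toFinite _),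
      Set.ncard_union_eq (Set.disjoint_left.2 fun w h h' => hbc w h.1 h'.1) (Set.toFinite _)
        (Set.toFinite _)]
    omega
  have hsum : Nat.card (orbit P.H b) + Nat.card (orbit P.H c) = 252 := by
    have h := hsplit Set.univ trivial
    rw [Set.ncard_univ, P.hΩ, Set.inter_univ, Set.inter_univ] at h
    simp only [Nat.card_coe_set_eq]
    omega
  obtain ⟨z, hz, hz2⟩ := P.exists_invol
  have hz1 : z ≠ 1 := fun e => by rw [e, orderOf_one] at hz2; norm_num at hz2
  have hzfix := hsplit (fixedBy Ω z) (P.smul_a (P.Q_le hz))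
  rw [show (fixedBy Ω z).ncard = 29 from
    (Nat.card_coe_set_eq _).symm.trans (P.hfix z hz2)] at hzfix
  have e : 252 - Nat.card (orbit P.H b) = Nat.card (orbit P.H c) := by omega
  have hcases := arith_cases (Nat.card (orbit P.H b)) (Nat.card (P.qfix b) - 1)
    (Nat.card (P.qfix c) - 1) (orbit P.H b ∩ fixedBy Ω z).ncard (by omega) (P.qfix_cases b)
    (P.qfix_cases c) (Dvd.intro _ (P.card_orbit_mul b))
    (e ▸ Dvd.intro _ (P.card_orbit_mul c)) (P.double_count hz hz1 b)
    (by rw [e, P.double_count hz hz1 c]; omega) (by omega) (by omega)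
  -- a swap
  obtain ⟨g, hg⟩ := exists_smul_eq G P.a b
  have hne : Nat.card (orbit P.H b) ≠ Nat.card (orbit P.H c) := by
    rcases hcases with h | h | h | h <;> omega
  obtain ⟨u, hua, hub⟩ : ∃ u : G, u • P.a = b ∧ u • b = P.a := by
    have hi : g⁻¹ • P.a ∈ orbit P.H b := by
      rcases hall (g⁻¹ • P.a) with h | h | h
      · exfalso
        rw [inv_smul_eq_iff] at h
        exact hba' (by rw [← hg, ← h])
      · exact h
      · exfalso
        have := P.card_orbit_inv g
        rw [hg, orbit_eq_iff.2 h] at this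
        exact hne this.symm
    obtain ⟨k, hk⟩ := hi
    change (k : G) • b = g⁻¹ • P.a at hk
    refine ⟨g * k, by rw [mul_smul, P.smul_a k.2, hg], ?_⟩
    rw [mul_smul, hk, smul_inv_smul]
  have hb := P.card_orbit_mul b
  have hmain : Nat.card (orbit P.H b) = 112 ∧ Nat.card (P.qfix b) - 1 = 0 ∧
      Nat.card (P.qfix c) - 1 = 3 := by
    rcases hcases with ⟨h1, h2⟩ | ⟨h1, h2⟩ | ⟨h1, h2⟩ | h
    iterate 3
      exfalso
      rw [h1] at hb
      have hq : Nat.card (P.qfix b) = Nat.card (P.qfix b) - 1 + 1 := by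
        have : 0 < Nat.card (P.qfix b) := Nat.card_pos
        omega
      rw [h2] at hq
      have hL : Nat.card (P.H ⊓ stabilizer G b : Subgroup G) = 40320 / _ :=
        (Nat.div_eq_of_eq_mul_right (by norm_num) hb.symm).symm
      have := P.qfix_small hua hub (by rw [hL]; norm_num)
      rw [hq, hL] at this
      norm_num at this
    exact h
  have hposb : 0 < Nat.card (P.qfix b) := Nat.card_pos
  have hposc : 0 < Nat.card (P.qfix c) := Nat.card_pos
  refine ⟨⟨b, c, u, hua, hub, hmain.1, by omega, hall, hba, hca, hbc, ?_, ?_⟩⟩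
  · rintro _ ⟨k, rfl⟩ q hq hfx
    have h1 : Nat.card (P.qfix ((k : G) • b)) = 1 := by rw [P.card_qfix_smul k.2]; omega
    have hm : q ∈ P.qfix ((k : G) • b) := ⟨hq, hfx⟩
    rw [Subgroup.card_eq_one] at h1
    rwa [h1, Subgroup.mem_bot] at hm
  · rintro _ ⟨k, rfl⟩
    show Nat.card (P.qfix ((k : G) • c)) = 4
    rw [P.card_qfix_smul k.2]
    omega

end Cfsg.Agent.H67.MTwentyThree
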