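import Mathlib

/-!
A matrix `B` with `B ^ 3 = D B` has trace `j s`, where `s ^ 2 = D` and `j` is an integer of absolute
value at most its size.
-/

set_option autoImplicit false

namespace Cfsg.Agent.H67.MTwentyThree

open Polynomial

theorem sum_pm (s : ℂ) : ∀ m : Multiset ℂ, (∀ x ∈ m, x = 0 ∨ x = s ∨ x = -s) →
    ∃ j : ℤ, j.natAbs ≤ Multiset.card m ∧ m.sum = (j : ℂ) * s := by
  intro m
  induction m using Multiset.induction_on with
  | empty => exact fun _ => ⟨0, by simp, by simp⟩
  | cons x m ih =>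
    intro h
    obtain ⟨j, hj, hs⟩ := ih fun y hy => h y (Multiset.mem_cons_of_mem hy)
    rw [Multiset.sum_cons, Multiset.card_cons, hs]
    rcases h x (Multiset.mem_cons_self x m) with rfl | rfl | rfl
    · exact ⟨j, by omega, by simp⟩
    · exact ⟨j + 1, by omega, by push_cast; ring⟩
    · exact ⟨j - 1, by omega, by push_cast; ring⟩

theorem trace_sq {n : Type*} [Fintype n] [DecidableEq n] (B : Matrix n n ℂ) (D t : ℤ)
    (hB : B * B * B = (D : ℂ) • B) (ht : B.trace = (t : ℂ)) :
    ∃ j : ℤ, j.natAbs ≤ Fintype.card n ∧ t * t = D * (j * j) := by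
  obtain ⟨s, hs⟩ := IsAlgClosed.exists_eq_mul_self (D : ℂ)
  let p : ℂ[X] := X ^ 3 - C (D : ℂ) * X
  have hp : aeval B p = 0 := by
    simp only [p, map_sub, map_mul, aeval_X_pow, aeval_X, aeval_C, Algebra.algebraMap_eq_smul_one,
      smul_mul_assoc, one_mul]
    rw [pow_succ, pow_two, hB, sub_self]
  have hroot : ∀ x ∈ B.charpoly.roots, x = 0 ∨ x = s ∨ x = -s := by
    intro x hx
    haveI : Nonempty n := by
      by_contra hn
      rw [not_nonempty_iff] at hn
      simp at hx
    have hσ : x ∈ spectrum ℂ B := (Matrix.mem_spectrum_iff_isRoot_charpoly).2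
      (Polynomial.isRoot_of_mem_roots hx)
    have h := spectrum.subset_polynomial_aeval B p ⟨x, hσ, rfl⟩
    rw [hp, spectrum.zero_eq, Set.mem_singleton_iff] at h
    have h' : x * ((x - s) * (x + s)) = 0 := by
      simp only [p, eval_sub, eval_pow, eval_X, eval_mul, eval_C] at h
      linear_combination h + x * hs
    rcases mul_eq_zero.1 h' with h0 | h0
    · exact Or.inl h0
    rcases mul_eq_zero.1 h0 with h1 | h1
    · exact Or.inr (Or.inl (sub_eq_zero.1 h1))
    · exact Or.inr (Or.inr (eq_neg_of_add_eq_zero_left h1))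
  obtain ⟨j, hj, hsum⟩ := sum_pm s _ hroot
  refine ⟨j, hj.trans ?_, ?_⟩
  · exact (Polynomial.card_roots' _).trans (le_of_eq (Matrix.charpoly_natDegree_eq_dim B))
  · have : ((t * t : ℤ) : ℂ) = ((D * (j * j) : ℤ) : ℂ) := by
      push_cast
      rw [← ht, Matrix.trace_eq_sum_roots_charpoly, hsum, hs]
      ring
    exact_mod_cast this

end Cfsg.Agent.H67.MTwentyThree
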