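import Cfsg.Agent.H67.MTwentyThree.Graph
import Cfsg.Agent.H67.MTwentyThree.Trace

/-!
The parameters of the graph: `λ = 36`, `μ = 60`, orbits of `Q` are cocliques and a point has six
neighbours in each of the other orbits.
-/

set_option autoImplicit false
set_option linter.style.haveILetI false
set_option linter.unusedSectionVars false

open scoped Classical

namespace Cfsg.Agent.H67.MTwentyThree

open MulAction Subgroup

universe u v

theorem param_cases (a0 a1 l m : ℕ) (j : ℤ) (h0 : a0 = 0 ∨ a0 = 15) (h1 : a1 ≤ 16)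
    (hl : l = a0 + 6 * a1) (hl' : l ≤ 111) (hm : 112 * (111 - l) = 140 * m)
    (hj : j.natAbs ≤ 253)
    (ht : (-252 * ((l : ℤ) - m) - 224) * (-252 * ((l : ℤ) - m) - 224) =
      (((l : ℤ) - m) * ((l : ℤ) - m) + 4 * (112 - m)) * (j * j)) :
    a0 = 0 ∧ a1 = 6 ∧ m = 60 := by
  have key : (([0, 15] : List ℕ).all fun a0 => (List.range 17).all fun a1 =>
      decide (111 < a0 + 6 * a1) || 112 * (111 - (a0 + 6 * a1)) % 140 != 0 ||
        (a0 == 0 && a1 == 6) || (List.range 254).all fun i =>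
          let l : ℤ := ((a0 + 6 * a1 : ℕ) : ℤ)
          let m : ℤ := ((112 * (111 - (a0 + 6 * a1)) / 140 : ℕ) : ℤ)
          (-252 * (l - m) - 224) * (-252 * (l - m) - 224) !=
            ((l - m) * (l - m) + 4 * (112 - m)) * ((i : ℤ) * (i : ℤ))) = true := by decide +kernel
  have h := List.all_eq_true.1 key a0 (by simpa using h0)
  have h' := List.all_eq_true.1 h a1 (List.mem_range.2 (by omega))
  simp only [Bool.or_eq_true, decide_eq_true_eq, bne_iff_ne, ne_eq, Bool.and_eq_true,
    beq_iff_eq] at h'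
  have hmod : 112 * (111 - (a0 + 6 * a1)) % 140 = 0 := by rw [← hl, hm]; exact Nat.mul_mod_right _ _
  have hmeq : 112 * (111 - (a0 + 6 * a1)) / 140 = m := by rw [← hl, hm]; omega
  rcases h' with ((h' | h') | h') | h'
  · omega
  · exact absurd hmod h'
  · obtain ⟨rfl, rfl⟩ := h'
    refine ⟨rfl, rfl, ?_⟩
    norm_num at hmeq
    omega
  · exfalso
    have h'' := List.all_eq_true.1 h' j.natAbs (List.mem_range.2 (by omega))
    rw [← hl] at hmeq
    simp only [bne_iff_ne, ne_eq, ← hl, hmeq] at h''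
    exact h'' (by rw [ht, ← Nat.cast_mul, Int.natAbs_mul_self])

namespace Suborbits

variable {G : Type u} [Group G] {Ω : Type v} [MulAction G Ω] [IsPretransitive G Ω] [Fintype Ω]
  {P : Setting G Ω} (S : Suborbits P)

theorem common_H {h : G} (hh : h ∈ P.H) (y : Ω) :
    (S.nb P.a ∩ S.nb (h • y)).card = (S.nb P.a ∩ S.nb y).card := by
  conv_lhs => rw [← P.smul_a hh, S.card_inter_smul]

theorem common_near {y : Ω} (hy : y ∈ S.nb P.a) :
    (S.nb P.a ∩ S.nb y).card = (S.nb P.a ∩ S.nb S.b).card := by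
  obtain ⟨⟨h, hh⟩, rfl⟩ := S.mem_nb_a.1 hy
  exact S.common_H hh S.b

theorem common_far {y : Ω} (hy : y ∈ S.far) :
    (S.nb P.a ∩ S.nb y).card = (S.nb P.a ∩ S.nb S.c).card := by
  obtain ⟨⟨h, hh⟩, rfl⟩ := S.mem_far.1 hy
  exact S.common_H hh S.c

theorem common_eq (x y : Ω) : (S.nb x ∩ S.nb y).card =
    if x = y then 112 else if S.Adj x y then (S.nb P.a ∩ S.nb S.b).card
      else (S.nb P.a ∩ S.nb S.c).card := by
  obtain ⟨k, hk⟩ := exists_smul_eq G x P.a
  rw [← S.card_inter_smul k, hk]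
  split_ifs with hxy hadj
  · rw [← hxy, hk, Finset.inter_self, S.card_nb]
  · refine S.common_near (S.mem_nb.2 ?_)
    rw [← hk, S.adj_smul]
    exact hadj
  · refine S.common_far ?_
    rcases S.cases_pt (k • y) with h | h | h
    · exact absurd (smul_left_cancel k (hk.trans h.symm)) hxy
    · rw [S.mem_nb, ← hk, S.adj_smul] at h
      exact absurd h hadj
    · exact h

theorem count_eq : 112 * (111 - (S.nb P.a ∩ S.nb S.b).card) =
    140 * (S.nb P.a ∩ S.nb S.c).card ∧ (S.nb P.a ∩ S.nb S.b).card ≤ 111 := by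
  have hsplit : ∀ y ∈ S.nb P.a,
      (S.far.filter (S.Adj y)).card + (S.nb P.a ∩ S.nb S.b).card + 1 = 112 := by
    intro y hy
    rw [← S.common_near hy, ← S.card_nb y]
    have e : S.nb y = insert P.a ((S.nb P.a ∩ S.nb y) ∪ S.far.filter (S.Adj y)) := by
      ext w
      constructor
      · intro hw
        rcases S.cases_pt w with h | h | h
        · exact h ▸ Finset.mem_insert_self _ _
        · exact Finset.mem_insert_of_mem (Finset.mem_union_left _ (Finset.mem_inter.2 ⟨h, hw⟩))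
        · exact Finset.mem_insert_of_mem
            (Finset.mem_union_right _ (Finset.mem_filter.2 ⟨h, S.mem_nb.1 hw⟩))
      · intro hw
        rcases Finset.mem_insert.1 hw with rfl | hw
        · exact S.mem_nb.2 (S.adj_symm (S.mem_nb.1 hy))
        rcases Finset.mem_union.1 hw with hw | hw
        · exact (Finset.mem_inter.1 hw).2
        · exact S.mem_nb.2 (Finset.mem_filter.1 hw).2
    conv_rhs => rw [e]
    rw [Finset.card_insert_of_notMem, Finset.card_union_of_disjoint]
    · omega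
    · exact Finset.disjoint_left.2 fun w h h' =>
        (S.far_not (Finset.mem_filter.1 h').1).2 (Finset.mem_inter.1 h).1
    · intro h
      rcases Finset.mem_union.1 h with h | h
      · exact S.a_notMem_nb (Finset.mem_inter.1 h).1
      · exact (S.far_not (Finset.mem_filter.1 h).1).1 rfl
  refine ⟨?_, by have := hsplit _ S.b_mem; omega⟩
  have hside : ∀ y ∈ S.far,
      ((S.nb P.a).filter fun w => S.Adj w y).card = (S.nb P.a ∩ S.nb S.c).card := by
    intro y hy
    rw [← S.common_far hy]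
    congr 1
    ext w
    simp only [Finset.mem_filter, Finset.mem_inter, S.mem_nb, S.adj_comm (x := w) (y := y)]
  have h := Finset.sum_card_bipartiteAbove_eq_sum_card_bipartiteBelow (s := S.nb P.a) (t := S.far)
    (r := fun u y => S.Adj u y)
  simp only [Finset.bipartiteAbove, Finset.bipartiteBelow] at h
  rw [Finset.sum_congr rfl (g := fun _ => 111 - (S.nb P.a ∩ S.nb S.b).card) (fun u hu => by
      have h' := hsplit u hu
      convert (show (S.far.filter (S.Adj u)).card = 111 - (S.nb P.a ∩ S.nb S.b).card by omega) using 3),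
    Finset.sum_congr rfl hside, Finset.sum_const, Finset.sum_const, S.card_nb, S.card_far] at h
  simpa using h

theorem near_self :
    (S.nb S.b ∩ S.qorb S.b).card = 0 ∨ (S.nb S.b ∩ S.qorb S.b).card = 15 := by
  rcases Finset.eq_empty_or_nonempty (S.nb S.b ∩ S.qorb S.b) with h | ⟨y, hy⟩
  · exact Or.inl (Finset.card_eq_zero.2 h)
  refine Or.inr ?_
  obtain ⟨hy1, hy2⟩ := Finset.mem_inter.1 hy
  obtain ⟨q, hq, rfl⟩ := S.mem_qorb.1 hy2
  have hq1 : q ≠ 1 := fun e => S.not_adj_self S.b (by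
    rw [e, one_smul] at hy1; exact S.mem_nb.1 hy1)
  have hall : S.nb S.b ∩ S.qorb S.b = (S.qorb S.b).erase S.b := by
    ext w
    constructor
    · intro hw
      obtain ⟨h1, h2⟩ := Finset.mem_inter.1 hw
      exact Finset.mem_erase.2 ⟨fun e => S.not_adj_self S.b (S.mem_nb.1 (e ▸ h1)), h2⟩
    · intro hw
      obtain ⟨h1, h2⟩ := Finset.mem_erase.1 hw
      refine Finset.mem_inter.2 ⟨?_, h2⟩
      obtain ⟨r, hr, rfl⟩ := S.mem_qorb.1 h2
      obtain ⟨l, hl, hlr⟩ := S.trans_Q hq hq1 hr (fun e => h1 (by rw [e, one_smul]))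
      have h := (S.adj_smul l).2 (S.mem_nb.1 hy1)
      rw [S.smul_b hl] at h
      refine S.mem_nb.2 ?_
      rw [← hlr, mul_smul, mul_smul, S.smul_b (inv_mem hl)]
      exact h
  rw [hall, Finset.card_erase_of_mem (S.self_mem_qorb _), S.card_qorb S.b_mem]

theorem near_other {y z : Ω} (hy : y ∈ S.nb P.a) (hz : z ∈ S.nb P.a) (hyb : y ∉ S.qorb S.b)
    (hzb : z ∉ S.qorb S.b) :
    (S.nb S.b ∩ S.qorb y).card = (S.nb S.b ∩ S.qorb z).card := by
  obtain ⟨l, hl, hly⟩ := S.trans_other hy hz hyb hzb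
  rw [← S.qorb_eq hly, S.qorb_smul hl.1]
  conv_rhs => rw [← S.smul_b hl, S.nb_smul, ← Finset.image_inter _ _ (MulAction.injective l),
    Finset.card_image_of_injective _ (MulAction.injective l)]

theorem lam_sum {y : Ω} (hy : y ∈ S.nb P.a) (hyb : y ∉ S.qorb S.b) :
    (S.nb P.a ∩ S.nb S.b).card =
      (S.nb S.b ∩ S.qorb S.b).card + 6 * (S.nb S.b ∩ S.qorb y).card := by
  have hcard : ∀ O : Finset Ω, (∑ x ∈ O, if x ∈ S.nb S.b then 1 else 0) = (S.nb S.b ∩ O).card := by
    intro O
    rw [Finset.sum_boole, Nat.cast_id, Finset.filter_mem_eq_inter, Finset.inter_comm]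
  have h := S.sum_nb fun x => if x ∈ S.nb S.b then 1 else 0
  simp only [hcard] at h
  have hrest : ∀ O ∈ S.orbs.erase (S.qorb S.b),
      (S.nb S.b ∩ O).card = (S.nb S.b ∩ S.qorb y).card := by
    intro O hO
    obtain ⟨hne, hO'⟩ := Finset.mem_erase.1 hO
    obtain ⟨z, hz, rfl⟩ := Finset.mem_image.1 hO'
    exact S.near_other hz hy (fun e => hne (S.qorb_eq e)) hyb
  rw [Finset.inter_comm (S.nb S.b), ← Finset.add_sum_erase _ _ (S.qorb_mem S.b_mem),
    Finset.sum_congr rfl hrest, Finset.sum_const, Finset.card_erase_of_mem (S.qorb_mem S.b_mem),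
    S.card_orbs, smul_eq_mul] at h
  exact h

theorem exists_other : ∃ y ∈ S.nb P.a, y ∉ S.qorb S.b := by
  by_contra h
  push Not at h
  have := Finset.card_le_card (fun x hx => h x hx : S.nb P.a ⊆ S.qorb S.b)
  rw [S.card_nb, S.card_qorb S.b_mem] at this
  omega

theorem params : (S.nb S.b ∩ S.qorb S.b).card = 0 ∧
    (∀ y ∈ S.nb P.a, y ∉ S.qorb S.b → (S.nb S.b ∩ S.qorb y).card = 6) ∧
    (S.nb P.a ∩ S.nb S.b).card = 36 ∧ (S.nb P.a ∩ S.nb S.c).card = 60 := by
  obtain ⟨y, hy, hyb⟩ := S.exists_other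
  have hsum := S.lam_sum hy hyb
  obtain ⟨hcount, hle⟩ := S.count_eq
  have ha1 : (S.nb S.b ∩ S.qorb y).card ≤ 16 :=
    (Finset.card_le_card Finset.inter_subset_right).trans (S.card_qorb hy).le
  have hΩ : Fintype.card Ω = 253 := by rw [← Nat.card_eq_fintype_card, P.hΩ]
  set lam := (S.nb P.a ∩ S.nb S.b).card with hlam
  set mu := (S.nb P.a ∩ S.nb S.c).card with hmu
  let A : Matrix Ω Ω ℂ := Matrix.of fun x w => if S.Adj x w then 1 else 0
  let J : Matrix Ω Ω ℂ := Matrix.of fun _ _ => 1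
  have hAJ : A * J = (112 : ℂ) • J := by
    ext x w
    rw [Matrix.mul_apply, Matrix.smul_apply]
    simp only [A, J, Matrix.of_apply, mul_one, Finset.sum_boole, smul_eq_mul]
    rw [show Finset.univ.filter (S.Adj x) = S.nb x from rfl, S.card_nb]
    norm_num
  have hJA : J * A = (112 : ℂ) • J := by
    ext x w
    rw [Matrix.mul_apply, Matrix.smul_apply]
    simp only [A, J, Matrix.of_apply, mul_one, one_mul, Finset.sum_boole, smul_eq_mul]
    rw [show (Finset.univ.filter fun v => S.Adj v w) = S.nb w by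
      ext v; simp [S.mem_nb, S.adj_comm (x := v) (y := w)], S.card_nb]
    norm_num
  have hJJ : J * J = (253 : ℂ) • J := by
    ext x w
    rw [Matrix.mul_apply, Matrix.smul_apply]
    simp [J, hΩ]
  have hAA : A * A = ((lam : ℂ) - mu) • A + ((112 : ℂ) - mu) • 1 + (mu : ℂ) • J := by
    ext x w
    rw [Matrix.mul_apply]
    simp only [A, J, Matrix.of_apply, Matrix.add_apply, Matrix.smul_apply, Matrix.one_apply,
      smul_eq_mul, ← ite_and, mul_ite, mul_one, mul_zero,
      Finset.sum_boole]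
    rw [show (Finset.univ.filter fun v => S.Adj v w ∧ S.Adj x v) = S.nb x ∩ S.nb w by
      ext v; simp [S.mem_nb, S.adj_comm (x := v) (y := w), and_comm], S.common_eq]
    by_cases hxw : x = w
    · subst hxw
      rw [if_pos rfl, if_pos rfl, if_neg (S.not_adj_self x)]
      push_cast
      ring
    · rw [if_neg hxw, if_neg hxw]
      by_cases h : S.Adj x w
      · rw [if_pos h, if_pos h]; ring
      · rw [if_neg h, if_neg h]; ring
  set d : ℂ := (lam : ℂ) - mu with hd
  set c : ℂ := (224 - d) / 253 with hc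
  let B : Matrix Ω Ω ℂ := (2 : ℂ) • A - d • 1 - c • J
  have hBJ : J * B = 0 := by
    simp only [B, mul_sub, Matrix.mul_smul, mul_one, hJA, hJJ, smul_smul, ← sub_smul]
    rw [show (2 : ℂ) * 112 - d - c * 253 = 0 by rw [hc]; ring, zero_smul]
  have hBB : B * B = (d * d + 4 * (112 - (mu : ℂ))) • 1 + (4 * (mu : ℂ) - c * (224 - d)) • J := by
    simp only [B, mul_sub, sub_mul, Matrix.mul_smul, Matrix.smul_mul, mul_one, one_mul, hJA, hAJ,
      hJJ, hAA, smul_add, smul_smul]
    match_scalars <;> ring1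
  have hB3 : B * B * B =
      (((((lam : ℤ) - mu) * ((lam : ℤ) - mu) + 4 * (112 - mu) : ℤ)) : ℂ) • B := by
    rw [hBB, add_mul, Matrix.smul_mul, Matrix.smul_mul, one_mul, hBJ, smul_zero, add_zero, hd]
    push_cast
    rfl
  have htr : B.trace = (((-252 * ((lam : ℤ) - mu) - 224 : ℤ)) : ℂ) := by
    simp only [B, Matrix.trace_sub, Matrix.trace_smul, Matrix.trace_one, hΩ, smul_eq_mul]
    rw [show A.trace = 0 from Finset.sum_eq_zero fun x _ => if_neg (S.not_adj_self x),
      show J.trace = 253 by simp [J, Matrix.trace, hΩ], hc, hd]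
    push_cast
    ring
  obtain ⟨j, hj, hjt⟩ := trace_sq B _ _ hB3 htr
  obtain ⟨e0, e1, em⟩ := param_cases _ _ lam mu j S.near_self ha1 hsum hle hcount (hΩ ▸ hj) hjt
  refine ⟨e0, fun z hz hzb => (S.near_other hz hy hzb hyb).trans e1, ?_, em⟩
  omega

end Suborbits

end Cfsg.Agent.H67.MTwentyThree
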