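import Cfsg.Agent.H67.MTwentyThree.Param

/-!
For each of the seven orbits `O` of `Q` on the neighbours of the base point, the spectral projection
of `O + 6 a` takes the values 128 and -56; each point at distance two has three orbits with value 128.
-/

set_option autoImplicit false
set_option linter.style.haveILetI false
set_option linter.unusedSectionVars false

open scoped Classical

namespace Cfsg.Agent.H67.MTwentyThree

open MulAction Subgroup

universe u v

theorem count_cases (n : Fin 5 → ℕ) (h7 : ∑ i, n i = 7) (h15 : ∑ i, n i * (i : ℕ) = 15)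
    (hz : ∑ i, (n i : ℤ) * (((i : ℕ) : ℤ) - 1) * (((i : ℕ) : ℤ) - 3) = 0) :
    (n 0 = 0 ∧ n 2 = 0 ∧ n 4 = 0) ∨ ∏ i, (n i).factorial ≤ 36 := by
  simp only [Fin.sum_univ_five, Fin.prod_univ_five, show ((0 : Fin 5) : ℕ) = 0 from rfl,
    show ((1 : Fin 5) : ℕ) = 1 from rfl, show ((2 : Fin 5) : ℕ) = 2 from rfl,
    show ((3 : Fin 5) : ℕ) = 3 from rfl, show ((4 : Fin 5) : ℕ) = 4 from rfl] at h7 h15 hz ⊢
  generalize n 0 = a, n 1 = b, n 2 = c, n 3 = d, n 4 = e at h7 h15 hz ⊢
  have h2 : c = 3 * a + 3 * e := by omega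
  have key : ((List.range 3).all fun a => (List.range 8).all fun b => (List.range 3).all fun e =>
      (List.range 8).all fun d => a + b + (3 * a + 3 * e) + d + e != 7 ||
        b + 2 * (3 * a + 3 * e) + 3 * d + 4 * e != 15 || (a == 0 && e == 0) ||
          decide (a.factorial * b.factorial * (3 * a + 3 * e).factorial * d.factorial *
            e.factorial ≤ 36)) = true := by decide +kernel
  have h := List.all_eq_true.1 key a (List.mem_range.2 (by omega))
  have h' := List.all_eq_true.1 h b (List.mem_range.2 (by omega))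
  have h'' := List.all_eq_true.1 h' e (List.mem_range.2 (by omega))
  have h''' := List.all_eq_true.1 h'' d (List.mem_range.2 (by omega))
  simp only [Bool.or_eq_true, bne_iff_ne, ne_eq, Bool.and_eq_true, beq_iff_eq,
    decide_eq_true_eq] at h'''
  rw [← h2] at h'''
  rcases h''' with ((h3 | h3) | h3) | h3
  · omega
  · omega
  · exact Or.inl ⟨h3.1, by omega, h3.2⟩
  · exact Or.inr h3

namespace Suborbits

variable {G : Type u} [Group G] {Ω : Type v} [MulAction G Ω] [IsPretransitive G Ω] [Fintype Ω]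
  {P : Setting G Ω} (S : Suborbits P)

/-- The spectral matrix. -/
noncomputable def M (x y : Ω) : ℤ :=
  10 + 46 * (if x = y then 1 else 0) - 23 * (if S.Adj x y then 1 else 0)

theorem M_self (x : Ω) : S.M x x = 56 := by
  rw [M, if_pos rfl, if_neg (S.not_adj_self x)]; norm_num

theorem M_adj {x y : Ω} (h : S.Adj x y) : S.M x y = -13 := by
  rw [M, if_neg (fun e : x = y => S.not_adj_self y (e ▸ h)), if_pos h]; norm_num

theorem M_far {x y : Ω} (h : x ≠ y) (h' : ¬ S.Adj x y) : S.M x y = 10 := by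
  rw [M, if_neg h, if_neg h']; norm_num

theorem M_smul (g : G) (x y : Ω) : S.M (g • x) (g • y) = S.M x y := by
  simp only [M, (MulAction.injective g).eq_iff, S.adj_smul]

theorem card_Ω (P' : Setting G Ω) : Fintype.card Ω = 253 :=
  Nat.card_eq_fintype_card.symm.trans P'.hΩ

theorem sum_M (y : Ω) : ∑ x, S.M x y = 0 := by
  simp only [M, Finset.sum_sub_distrib, Finset.sum_add_distrib, Finset.sum_const, Finset.card_univ,
    card_Ω P, ← Finset.mul_sum, Finset.sum_boole, nsmul_eq_mul]
  rw [show (Finset.univ.filter fun x => S.Adj x y) = S.nb y by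
    ext v; simp [S.mem_nb, S.adj_comm (x := v) (y := y)], S.card_nb,
    Finset.filter_eq' _ y, if_pos (Finset.mem_univ y), Finset.card_singleton]
  norm_num

theorem common_int (x y : Ω) : ((S.nb x ∩ S.nb y).card : ℤ) =
    if x = y then 112 else if S.Adj x y then 36 else 60 := by
  rw [S.common_eq, S.params.2.2.1, S.params.2.2.2]
  split_ifs <;> norm_num

theorem M_sq (x y : Ω) : ∑ v, S.M x v * S.M v y = 644 * S.M x y := by
  have hA : ∀ w, ∑ v, (if S.Adj w v then (1 : ℤ) else 0) = 112 := fun w => by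
    rw [Finset.sum_boole, show Finset.univ.filter (S.Adj w) = S.nb w from rfl, S.card_nb]
    norm_num
  have hA' : ∑ v, (if S.Adj v y then (1 : ℤ) else 0) = 112 := by
    rw [← hA y]
    exact Finset.sum_congr rfl fun v _ => by simp only [S.adj_comm (x := v) (y := y)]
  have hAA : ∑ v, (if S.Adj x v then (1 : ℤ) else 0) * (if S.Adj v y then (1 : ℤ) else 0) =
      ((S.nb x ∩ S.nb y).card : ℤ) := by
    simp only [mul_ite, mul_one, mul_zero, ← ite_and, Finset.sum_boole]
    congr 2
    ext v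
    simp [S.mem_nb, S.adj_comm (x := v) (y := y), and_comm]
  have e : ∀ v, S.M x v * S.M v y = 100 + 460 * (if x = v then 1 else 0) +
      460 * (if v = y then 1 else 0) - 230 * (if S.Adj x v then 1 else 0) -
      230 * (if S.Adj v y then 1 else 0) +
      (if x = v then (1 : ℤ) else 0) * (2116 * (if v = y then 1 else 0) -
        1058 * (if S.Adj v y then 1 else 0)) -
      (if v = y then (1 : ℤ) else 0) * (1058 * (if S.Adj x v then 1 else 0)) +
      529 * ((if S.Adj x v then (1 : ℤ) else 0) * (if S.Adj v y then 1 else 0)) := by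
    intro v; simp only [M]; ring
  rw [Finset.sum_congr rfl fun v _ => e v]
  simp only [Finset.sum_add_distrib, Finset.sum_sub_distrib, ← Finset.mul_sum, hA, hA', hAA]
  simp only [ite_mul, one_mul, zero_mul, Finset.sum_ite_eq, Finset.sum_ite_eq', Finset.mem_univ,
    if_true, Finset.sum_const, Finset.card_univ, card_Ω P, S.common_int, M]
  split_ifs with h h1 <;> first | (exfalso; exact S.not_adj_self y (h ▸ h1)) | norm_num

/-- The projection of `O + 6 a`. -/
noncomputable def phi (O : Finset Ω) (y : Ω) : ℤ := ∑ v ∈ O, S.M y v + 6 * S.M y P.a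

theorem phi_smul {h : G} (hh : h ∈ P.H) (O : Finset Ω) (y : Ω) :
    S.phi (O.image (h • ·)) (h • y) = S.phi O y := by
  rw [phi, phi, Finset.sum_image fun _ _ _ _ e => MulAction.injective h e]
  conv_lhs => arg 2; rw [← P.smul_a hh, S.M_smul]
  simp only [S.M_smul]

theorem orb_smul {h : G} (hh : h ∈ P.H) {O : Finset Ω} (hO : O ∈ S.orbs) :
    O.image (h • ·) ∈ S.orbs := by
  obtain ⟨x, hx, rfl⟩ := Finset.mem_image.1 hO
  rw [← S.qorb_smul hh]
  exact S.qorb_mem ((S.smul_nb_a hh).2 hx)

theorem phi_a {O : Finset Ω} (hO : O ∈ S.orbs) : S.phi O P.a = 128 := by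
  obtain ⟨x, hx, rfl⟩ := Finset.mem_image.1 hO
  rw [phi, S.M_self, Finset.sum_congr rfl fun v hv =>
    S.M_adj (S.mem_nb.1 (S.qorb_subset hx hv)), Finset.sum_const, S.card_qorb hx]
  norm_num

theorem sum_M_b (O : Finset Ω) : ∑ v ∈ O, S.M S.b v =
    10 * (O.card : ℤ) + 46 * (if S.b ∈ O then 1 else 0) - 23 * ((S.nb S.b ∩ O).card : ℤ) := by
  simp only [M, Finset.sum_sub_distrib, Finset.sum_add_distrib, Finset.sum_const, nsmul_eq_mul,
    ← Finset.mul_sum, Finset.sum_ite_eq, Finset.sum_boole]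
  rw [show O.filter (fun v => S.Adj S.b v) = S.nb S.b ∩ O by
    ext v; simp [S.mem_nb, and_comm]]
  ring

theorem phi_b {O : Finset Ω} (hO : O ∈ S.orbs) :
    S.phi O S.b = if S.b ∈ O then 128 else -56 := by
  obtain ⟨x, hx, rfl⟩ := Finset.mem_image.1 hO
  rw [phi, S.sum_M_b, S.card_qorb hx, S.M_adj (S.mem_nb.1 S.a_mem_nb_b)]
  by_cases h : S.b ∈ S.qorb x
  · rw [if_pos h, if_pos h, ← S.qorb_eq h, S.params.1]
    norm_num
  · rw [if_neg h, if_neg h,
      S.params.2.1 x hx (fun e => h ((S.qorb_eq e).symm ▸ S.self_mem_qorb S.b))]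
    norm_num

theorem phi_near {O : Finset Ω} (hO : O ∈ S.orbs) {y : Ω} (hy : y ∈ S.nb P.a) :
    S.phi O y = if y ∈ O then 128 else -56 := by
  obtain ⟨⟨h, hh⟩, hhy⟩ := S.mem_nb_a.1 hy
  change h • S.b = y at hhy
  have e : O = (O.image (h⁻¹ • ·)).image (h • ·) := by
    simp [Finset.image_image, Function.comp_def]
  have hO' := S.orb_smul (inv_mem hh) hO
  have hp := S.phi_b hO'
  rw [← hhy]
  conv_lhs => rw [e, S.phi_smul hh, hp]
  congr 1
  apply propext
  rw [Finset.mem_image]
  exact ⟨fun ⟨w, hw, e⟩ => by rwa [← e, smul_inv_smul],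
    fun hw => ⟨h • S.b, hw, inv_smul_smul h S.b⟩⟩

theorem phi_far {O : Finset Ω} (hO : O ∈ S.orbs) {y : Ω} (hy : y ∈ S.far) :
    S.phi O y = 220 - 23 * ((S.nb y ∩ O).card : ℤ) := by
  obtain ⟨x, hx, rfl⟩ := Finset.mem_image.1 hO
  obtain ⟨hya, hyn⟩ := S.far_not hy
  have hyO : y ∉ S.qorb x := fun h => hyn (S.qorb_subset hx h)
  rw [phi, S.M_far hya fun h => hyn (S.mem_nb.2 (S.adj_symm h))]
  simp only [M, Finset.sum_sub_distrib, Finset.sum_add_distrib, Finset.sum_const, nsmul_eq_mul,
    ← Finset.mul_sum, Finset.sum_ite_eq, Finset.sum_boole, S.card_qorb hx, if_neg hyO]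
  rw [show (S.qorb x).filter (fun v => S.Adj y v) = S.nb y ∩ S.qorb x by
    ext v; simp [S.mem_nb, and_comm]]
  ring

theorem four_dvd {O : Finset Ω} (hO : O ∈ S.orbs) {y : Ω} (hy : y ∈ S.far) :
    4 ∣ (S.nb y ∩ O).card := by
  haveI := P.finite
  obtain ⟨x, hx, rfl⟩ := Finset.mem_image.1 hO
  let X : SubMulAction (P.qfix y) Ω :=
    { carrier := ↑(S.nb y ∩ S.qorb x)
      smul_mem' := fun q v hv => by
        obtain ⟨h1, h2⟩ := Finset.mem_inter.1 hv
        refine Finset.mem_inter.2 ⟨S.mem_nb.2 ?_, ?_⟩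
        · have h := (S.adj_smul (q : G)).2 (S.mem_nb.1 h1)
          rwa [show (q : G) • y = y from q.2.2] at h
        · rw [← S.qorb_eq h2]
          exact S.mem_qorb.2 ⟨q, q.2.1, rfl⟩ }
  haveI : Fintype (Quotient (MulAction.orbitRel (P.qfix y) X)) := Fintype.ofFinite _
  have hX : Nat.card X = (S.nb y ∩ S.qorb x).card :=
    Nat.card_eq_finsetCard (S.nb y ∩ S.qorb x)
  rw [← hX, Nat.card_congr (MulAction.selfEquivSigmaOrbits (P.qfix y) X), Nat.card_sigma]
  refine Finset.dvd_sum fun ω _ => ?_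
  refine dvd_of_eq ?_
  have h1 : stabilizer (P.qfix y) ω.out = ⊥ := by
    rw [Subgroup.eq_bot_iff_forall]
    intro q hq
    exact Subtype.ext (S.free_b ω.out.1
      (S.mem_nb_a.1 (S.qorb_subset hx (Finset.mem_inter.1 ω.out.2).2)) _ q.2.1
      (congrArg Subtype.val hq))
  rw [Nat.card_coe_set_eq, ← index_stabilizer, h1, Subgroup.index_bot,
    S.qfix_c y (S.mem_far.1 hy)]

theorem sum_cards {y : Ω} (hy : y ∈ S.far) : ∑ O ∈ S.orbs, (S.nb y ∩ O).card = 60 := by
  have h := S.sum_nb fun x => if x ∈ S.nb y then 1 else 0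
  have hcard : ∀ O : Finset Ω, (∑ x ∈ O, if x ∈ S.nb y then 1 else 0) = (S.nb y ∩ O).card := by
    intro O
    rw [Finset.sum_boole, Nat.cast_id, Finset.filter_mem_eq_inter, Finset.inter_comm]
  simp only [hcard] at h
  rw [← h, Finset.inter_comm, S.common_far hy, S.params.2.2.2]

theorem phi_eigen (O : Finset Ω) (v : Ω) : ∑ y, S.phi O y * S.M y v = 644 * S.phi O v := by
  have hsymm : ∀ p q, S.M p q = S.M q p := fun p q => by
    simp only [M, eq_comm (a := p) (b := q), S.adj_comm (x := p) (y := q)]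
  simp only [phi, add_mul, Finset.sum_mul, Finset.sum_add_distrib, mul_assoc, ← Finset.mul_sum]
  rw [Finset.sum_comm, mul_add, Finset.mul_sum]
  have key : ∀ w, ∑ y, S.M y w * S.M y v = 644 * S.M v w := by
    intro w
    rw [← S.M_sq v w]
    exact Finset.sum_congr rfl fun y _ => by rw [hsymm v y, mul_comm]
  simp only [← Finset.mul_sum]
  rw [key P.a, Finset.sum_congr rfl fun w _ => key w]
  simp only [← Finset.mul_sum]
  ring

theorem sum_phi (O : Finset Ω) : ∑ y, S.phi O y = 0 := by
  simp only [phi, Finset.sum_add_distrib, ← Finset.mul_sum, S.sum_M]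
  rw [Finset.sum_comm, Finset.sum_congr rfl fun w _ => S.sum_M w]
  simp

/-- Pairing a projection with a vector in the image of the spectral matrix. -/
theorem pairing (O : Finset Ω) (F : Ω → ℤ) (hF : ∀ v, ∑ y, F y * S.M y v = 644 * F v) :
    ∑ y, F y * S.phi O y = 644 * (∑ v ∈ O, F v + 6 * F P.a) := by
  simp only [phi, mul_add, Finset.mul_sum, Finset.sum_add_distrib]
  rw [Finset.sum_comm, Finset.sum_congr rfl fun w _ => hF w]
  simp only [mul_left_comm (F _) (6 : ℤ)]
  simp only [← Finset.mul_sum]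
  rw [hF]
  ring

theorem norm_phi {O : Finset Ω} (hO : O ∈ S.orbs) :
    ∑ y, S.phi O y * S.phi O y = 644 * 2816 := by
  rw [S.pairing O _ (S.phi_eigen O), S.phi_a hO]
  obtain ⟨x, hx, rfl⟩ := Finset.mem_image.1 hO
  rw [Finset.sum_congr rfl fun v hv => by
    rw [S.phi_near (S.qorb_mem hx) (S.qorb_subset hx hv), if_pos hv], Finset.sum_const,
    S.card_qorb hx]
  norm_num

/-- The defect of a point at distance two vanishes. -/
theorem defect_zero {y : Ω} (hy : y ∈ S.far) :
    ∑ O ∈ S.orbs, (S.phi O y - 128) * (S.phi O y + 56) = 0 := by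
  set g : Ω → ℤ := fun z => ∑ O ∈ S.orbs, (S.phi O z - 128) * (S.phi O z + 56) with hg
  have hinv : ∀ h ∈ P.H, ∀ z, g (h • z) = g z := by
    intro h hh z
    refine Finset.sum_nbij' (fun O => O.image (h⁻¹ • ·)) (fun O => O.image (h • ·))
      (fun O hO => S.orb_smul (inv_mem hh) hO) (fun O hO => S.orb_smul hh hO)
      (fun O _ => by simp [Finset.image_image, Function.comp_def])
      (fun O _ => by simp [Finset.image_image, Function.comp_def]) fun O _ => ?_
    have e : O = (O.image (h⁻¹ • ·)).image (h • ·) := by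
      simp [Finset.image_image, Function.comp_def]
    conv_lhs => rw [e, S.phi_smul hh]
  have hconst : ∀ z ∈ S.far, g z = g S.c := by
    intro z hz
    obtain ⟨⟨h, hh⟩, rfl⟩ := S.mem_far.1 hz
    exact hinv h hh S.c
  have hzero : ∀ O ∈ S.orbs, ∑ z ∈ S.far, (S.phi O z - 128) * (S.phi O z + 56) = 0 := by
    intro O hO
    have htot : ∑ z, (S.phi O z - 128) * (S.phi O z + 56) = 0 := by
      have e : ∀ z, (S.phi O z - 128) * (S.phi O z + 56) =
          S.phi O z * S.phi O z - 72 * S.phi O z - 7168 := fun z => by ring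
      simp only [e, Finset.sum_sub_distrib, ← Finset.mul_sum, S.sum_phi, S.norm_phi hO,
        Finset.sum_const, Finset.card_univ, card_Ω P]
      norm_num
    refine (Finset.sum_subset (Finset.subset_univ _) fun z _ hz => ?_).trans htot
    rcases S.cases_pt z with h | h | h
    · rw [h, S.phi_a hO]; ring
    · rw [S.phi_near hO h]; split_ifs <;> ring
    · exact absurd h hz
  have htot : ∑ z ∈ S.far, g z = 0 := by
    rw [hg, Finset.sum_comm]
    exact Finset.sum_eq_zero hzero
  rw [Finset.sum_congr rfl hconst, Finset.sum_const, S.card_far, smul_eq_zero] at htot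
  exact (hconst y hy).trans (htot.resolve_left (by norm_num))

theorem cards_cases {y : Ω} (hy : y ∈ S.far) {O : Finset Ω} (hO : O ∈ S.orbs) :
    (S.nb y ∩ O).card = 4 ∨ (S.nb y ∩ O).card = 12 := by
  haveI := P.finite
  have hle : ∀ O : S.orbs, (S.nb y ∩ O.1).card / 4 < 5 := by
    rintro ⟨O, hO⟩
    obtain ⟨x, hx, rfl⟩ := Finset.mem_image.1 hO
    have := (Finset.card_le_card (Finset.inter_subset_right (s₁ := S.nb y) (s₂ := S.qorb x)))
    rw [S.card_qorb hx] at this
    show (S.nb y ∩ S.qorb x).card / 4 < 5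
    omega
  let f : S.orbs → Fin 5 := fun O => ⟨(S.nb y ∩ O.1).card / 4, hle O⟩
  have hf : ∀ O : S.orbs, (S.nb y ∩ O.1).card = 4 * (f O : ℕ) := fun O =>
    (Nat.mul_div_cancel' (S.four_dvd O.2 hy)).symm
  set n : Fin 5 → ℕ := fun i => Fintype.card {O // f O = i} with hn
  have hn' : ∀ i, n i = (Finset.univ.filter fun O => f O = i).card := fun i =>
    Fintype.card_subtype _
  have h7 : ∑ i, n i = 7 := by
    simp only [hn']
    rw [← Finset.card_eq_sum_card_fiberwise (fun O _ => Finset.mem_univ (f O)), Finset.card_univ,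
      Fintype.card_coe, S.card_orbs]
  have hsum : ∀ F : Fin 5 → ℤ, ∑ i, (n i : ℤ) * F i = ∑ O : S.orbs, F (f O) := by
    intro F
    rw [← Finset.sum_fiberwise_of_maps_to (fun O _ => Finset.mem_univ (f O)) (fun O => F (f O))]
    refine Finset.sum_congr rfl fun i _ => ?_
    rw [Finset.sum_congr rfl (g := fun _ => F i) fun O hO => by rw [(Finset.mem_filter.1 hO).2],
      Finset.sum_const, nsmul_eq_mul, hn']
  have h15 : ∑ i, n i * (i : ℕ) = 15 := by
    have h := hsum fun i => ((i : ℕ) : ℤ)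
    have h60 : ∑ O : S.orbs, 4 * (((f O) : ℕ) : ℤ) = 60 := by
      rw [← (show ((60 : ℕ) : ℤ) = 60 from rfl), ← S.sum_cards hy, Nat.cast_sum,
        ← Finset.sum_coe_sort S.orbs]
      exact Finset.sum_congr rfl fun O _ => by rw [hf O]; push_cast; rfl
    rw [← Finset.mul_sum, ← h] at h60
    have : ((∑ i, n i * (i : ℕ) : ℕ) : ℤ) = 15 := by push_cast; linarith
    exact_mod_cast this
  have hz : ∑ i, (n i : ℤ) * (((i : ℕ) : ℤ) - 1) * (((i : ℕ) : ℤ) - 3) = 0 := by
    simp only [mul_assoc]
    rw [hsum]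
    have h := S.defect_zero hy
    rw [← Finset.sum_coe_sort S.orbs, Finset.sum_congr rfl
      (g := fun O : S.orbs => (8464 : ℤ) * (((f O : ℕ) : ℤ) - 1) * (((f O : ℕ) : ℤ) - 3))
      (fun O _ => by rw [S.phi_far O.2 hy, hf O]; push_cast; ring)] at h
    simp only [mul_assoc, ← Finset.mul_sum] at h
    linarith
  rcases count_cases n h7 h15 hz with ⟨e0, e2, e4⟩ | hle36
  · have he : ∀ i, n i = 0 → f ⟨O, hO⟩ ≠ i := fun i hi e =>
      (Fintype.card_pos_iff.2 ⟨(⟨⟨O, hO⟩, e⟩ : {O // f O = i})⟩).ne' hi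
    have := hf ⟨O, hO⟩
    have h0 := he 0 e0
    have h2 := he 2 e2
    have h4 := he 4 e4
    generalize f ⟨O, hO⟩ = i at this h0 h2 h4
    fin_cases i <;> simp at this h0 h2 h4 <;> omega
  exfalso
  -- the stabiliser of `y` permutes the orbits preserving the values, with small kernel
  set U : Subgroup G := P.H ⊓ stabilizer G y with hU
  have hUc : Nat.card U = 288 := by
    have h := P.card_orbit_mul y
    rw [orbit_eq_iff.2 (S.mem_far.1 hy), S.card_c] at h
    show Nat.card (P.H ⊓ stabilizer G y : Subgroup G) = 288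
    omega
  let σ : U → Equiv.Perm S.orbs := fun u =>
    { toFun := fun O => ⟨_, S.orb_smul u.2.1 O.2⟩
      invFun := fun O => ⟨_, S.orb_smul (inv_mem u.2.1) O.2⟩
      left_inv := fun O => Subtype.ext (by simp [Finset.image_image, Function.comp_def])
      right_inv := fun O => Subtype.ext (by simp [Finset.image_image, Function.comp_def]) }
  let ψ : U →* Equiv.Perm S.orbs :=
    { toFun := σ
      map_one' := Equiv.ext fun O => Subtype.ext (by simp [σ])
      map_mul' := fun u v => Equiv.ext fun O => Subtype.ext (by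
        simp [σ, Finset.image_image, Function.comp_def, mul_smul]) }
  have hpres : ∀ u : U, f ∘ ψ u = f := by
    intro u
    funext O
    apply Fin.ext
    show (S.nb y ∩ O.1.image ((u : G) • ·)).card / 4 = (S.nb y ∩ O.1).card / 4
    congr 1
    conv_lhs => rw [← show (u : G) • y = y from u.2.2, S.nb_smul,
      ← Finset.image_inter _ _ (MulAction.injective (u : G)),
      Finset.card_image_of_injective _ (MulAction.injective (u : G))]
  have hker : Nat.card ψ.ker ≤ 4 := by
    rw [← S.qfix_c y (S.mem_far.1 hy)]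
    refine Nat.card_le_card_of_injective
      (fun u : ψ.ker => (⟨(u.1 : G), S.K_le_Q ⟨u.1.2.1, fun x hx => ?_⟩, u.1.2.2⟩ : P.qfix y))
      fun u v h => Subtype.ext (Subtype.ext (congrArg (fun w : P.qfix y => (w : G)) h))
    have hx' := S.mem_nb_a.2 hx
    have h := congrArg Subtype.val (Equiv.congr_fun (MonoidHom.mem_ker.1 u.2) ⟨_, S.qorb_mem hx'⟩)
    change (S.qorb x).image ((u.1 : G) • ·) = S.qorb x at h
    rw [← S.qorb_smul u.1.2.1, S.qorb_eq_iff] at h
    simpa [qorb] using h
  have hrange : Nat.card ψ.range ≤ 36 := by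
    refine le_trans ?_ ((DomMulAct.stabilizer_card f).trans_le hle36)
    rw [← Nat.card_eq_fintype_card]
    refine Nat.card_le_card_of_injective
      (fun p : ψ.range => (⟨p.1, ?_⟩ : {g : Equiv.Perm S.orbs // f ∘ g = f}))
      fun p q h => Subtype.ext (congrArg (fun g : {g : Equiv.Perm S.orbs // f ∘ g = f} => g.1) h)
    obtain ⟨_, u, rfl⟩ := p
    exact hpres u
  have h := ψ.ker.card_mul_index
  rw [Subgroup.index_ker, hUc] at h
  have := Nat.mul_le_mul hker hrange
  omega

theorem phi_values {O : Finset Ω} (hO : O ∈ S.orbs) (y : Ω) :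
    S.phi O y = 128 ∨ S.phi O y = -56 := by
  rcases S.cases_pt y with rfl | h | h
  · exact Or.inl (S.phi_a hO)
  · rw [S.phi_near hO h]
    split_ifs
    · exact Or.inl rfl
    · exact Or.inr rfl
  · rw [S.phi_far hO h]
    rcases S.cards_cases h hO with e | e <;> rw [e] <;> norm_num

theorem card_orbs_128 {y : Ω} (hy : y ∈ S.far) :
    (S.orbs.filter fun O => S.phi O y = 128).card = 3 := by
  have h := S.sum_cards hy
  have hA : ∀ O ∈ S.orbs.filter (fun O => S.phi O y = 128), (S.nb y ∩ O).card = 4 := by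
    intro O hO
    obtain ⟨hO, h128⟩ := Finset.mem_filter.1 hO
    rw [S.phi_far hO hy] at h128
    omega
  have hB : ∀ O ∈ S.orbs.filter (fun O => ¬ S.phi O y = 128), (S.nb y ∩ O).card = 12 := by
    intro O hO
    obtain ⟨hO, h128⟩ := Finset.mem_filter.1 hO
    rcases S.cards_cases hy hO with e | e
    · exfalso
      rw [S.phi_far hO hy, e] at h128
      norm_num at h128
    · exact e
  rw [← Finset.sum_filter_add_sum_filter_not S.orbs (fun O => S.phi O y = 128),
    Finset.sum_congr rfl hA, Finset.sum_congr rfl hB, Finset.sum_const, Finset.sum_const,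
    smul_eq_mul, smul_eq_mul] at h
  have := Finset.card_filter_add_card_filter_not (s := S.orbs) (fun O => S.phi O y = 128)
  rw [S.card_orbs] at this
  omega

end Suborbits

end Cfsg.Agent.H67.MTwentyThree
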