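import Cfsg.Agent.H33.PermCharacter
import Cfsg.Agent.H85.ElemEight.Main
import Cfsg.Agent.H83.ClassConst

/-!
A transitive action of degree 253 of a perfect group without small character degrees other than
22, 45, 230 and 231 has permutation character `1 + 22 + 230`: the rank is three, and an element
with values 6 and 22 on these characters fixes 29 points.
-/

set_option autoImplicit false
set_option linter.style.haveILetI false

namespace Cfsg.Agent.H67.MTwentyThree

open Cfsg CharBasic MulAction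

universe u

theorem rank_and_fixed {G : Type u} [Group G] [Finite G] (hperf : commutator G = ⊤)
    (hdeg : ∀ χ : IrrCharacter G, charDegree (χ : G → ℂ) ≠ 1 →
      charDegree (χ : G → ℂ) = 22 ∨ charDegree (χ : G → ℂ) = 45 ∨
        charDegree (χ : G → ℂ) = 230 ∨ charDegree (χ : G → ℂ) = 231 ∨
          252 < charDegree (χ : G → ℂ))
    {Ω : Type*} [Fintype Ω] [MulAction G Ω] [IsPretransitive G Ω]
    (hΩ : Fintype.card Ω = 253) (a : Ω) :
    Nat.card (orbitRel.Quotient (stabilizer G a) Ω) = 3 ∧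
      ∀ z : G, (∀ χ : IrrCharacter G, charDegree (χ : G → ℂ) = 22 → (χ : G → ℂ) z = 6) →
        (∀ χ : IrrCharacter G, charDegree (χ : G → ℂ) = 230 → (χ : G → ℂ) z = 22) →
          Nat.card (fixedBy Ω z) = 29 := by
  classical
  haveI := Fintype.ofFinite G
  haveI : Nonempty Ω := ⟨a⟩
  obtain ⟨m, hm, hπ⟩ := IsChar.exists_nat_mult (H33.isCharacter_permChar (G := G) (Ω := Ω))
  let one : IrrCharacter G := ⟨fun _ => 1, isIrrCharacter_one⟩
  have h1 : m one = 1 := by
    have h := hm one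
    rw [show ((one : IrrCharacter G) : G → ℂ) = fun _ => 1 from rfl, H33.classInner_permChar_one] at h
    exact_mod_cast h.symm
  have hd : ∀ ψ : IrrCharacter G, (ψ : G → ℂ) 1 = (charDegree (ψ : G → ℂ) : ℂ) :=
    fun ψ => (H83.charDegree_eq ψ.2).1
  have hone : ∀ ψ : IrrCharacter G, ψ ≠ one → charDegree (ψ : G → ℂ) ≠ 1 := by
    intro ψ hψ h
    apply hψ
    apply Subtype.ext
    refine H85.ElemEight.eq_one_of_degree_one hperf ?_
    rw [hd, h, Nat.cast_one]
  set S : Finset (IrrCharacter G) := Finset.univ.erase one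
  have hsum : ∑ ψ ∈ S, m ψ * charDegree (ψ : G → ℂ) = 252 := by
    have h := congrFun hπ 1
    rw [H33.permChar_one, hΩ, Finset.sum_apply] at h
    simp only [Pi.smul_apply, smul_eq_mul, hd] at h
    rw [← Finset.add_sum_erase _ _ (Finset.mem_univ one), h1] at h
    have e1 : charDegree ((one : IrrCharacter G) : G → ℂ) = 1 := by
      have := hd one
      rw [show ((one : IrrCharacter G) : G → ℂ) 1 = 1 from rfl] at this
      exact_mod_cast this.symm
    rw [e1] at h
    have h' : 253 = 1 + ∑ ψ ∈ S, m ψ * charDegree (ψ : G → ℂ) := by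
      have : ((253 : ℕ) : ℂ) = ((1 + ∑ ψ ∈ S, m ψ * charDegree (ψ : G → ℂ) : ℕ) : ℂ) := by
        push_cast at h ⊢
        linear_combination h
      exact_mod_cast this
    omega
  let A := fun d => S.filter fun ψ : IrrCharacter G => charDegree (ψ : G → ℂ) = d
  have hbig : ∀ ψ ∈ S, m ψ ≠ 0 → charDegree (ψ : G → ℂ) = 22 ∨ charDegree (ψ : G → ℂ) = 45 ∨
      charDegree (ψ : G → ℂ) = 230 ∨ charDegree (ψ : G → ℂ) = 231 := by
    intro ψ hψ h0
    rcases hdeg ψ (hone ψ (Finset.ne_of_mem_erase hψ)) with h | h | h | h | h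
    · exact Or.inl h
    · exact Or.inr (Or.inl h)
    · exact Or.inr (Or.inr (Or.inl h))
    · exact Or.inr (Or.inr (Or.inr h))
    · exfalso
      have := Finset.single_le_sum (f := fun ψ => m ψ * charDegree (ψ : G → ℂ))
        (fun _ _ => Nat.zero_le _) hψ
      rw [hsum] at this
      have := le_trans (Nat.le_mul_of_pos_left _ (Nat.pos_of_ne_zero h0)) this
      omega
  have key : ∀ {M : Type} [AddCommMonoid M] (f : IrrCharacter G → M), (∀ ψ, m ψ = 0 → f ψ = 0) →
      ∑ ψ ∈ S, f ψ = (∑ ψ ∈ A 22, f ψ) + (∑ ψ ∈ A 45, f ψ) + (∑ ψ ∈ A 230, f ψ) +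
        ∑ ψ ∈ A 231, f ψ := by
    intro M _ f hf
    rw [← Finset.sum_union, ← Finset.sum_union, ← Finset.sum_union]
    · refine (Finset.sum_subset (fun ψ hψ => ?_) fun ψ hψ hn => ?_).symm
      · simp only [A, Finset.mem_union, Finset.mem_filter] at hψ
        tauto
      · apply hf
        by_contra h0
        apply hn
        simp only [A, Finset.mem_union, Finset.mem_filter]
        rcases hbig ψ hψ h0 with h | h | h | h <;> tauto
    all_goals
      simp only [A, Finset.disjoint_left, Finset.mem_union, Finset.mem_filter]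
      intro ψ h h'
      omega
  have hk := key (fun ψ => m ψ * charDegree (ψ : G → ℂ)) fun ψ h => by simp [h]
  rw [hsum] at hk
  have hA : ∀ d, ∑ ψ ∈ A d, m ψ * charDegree (ψ : G → ℂ) = d * ∑ ψ ∈ A d, m ψ := by
    intro d
    rw [Finset.mul_sum]
    exact Finset.sum_congr rfl fun ψ hψ => by rw [(Finset.mem_filter.1 hψ).2, mul_comm]
  rw [hA, hA, hA, hA] at hk
  have hval : ∑ ψ ∈ A 22, m ψ = 1 ∧ ∑ ψ ∈ A 45, m ψ = 0 ∧ ∑ ψ ∈ A 230, m ψ = 1 ∧
      ∑ ψ ∈ A 231, m ψ = 0 := by
    have hb : ∑ ψ ∈ A 45, m ψ ≤ 5 := by omega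
    have hc : ∑ ψ ∈ A 230, m ψ ≤ 1 := by omega
    have hd' : ∑ ψ ∈ A 231, m ψ ≤ 1 := by omega
    generalize ∑ ψ ∈ A 45, m ψ = b at hk hb ⊢
    generalize ∑ ψ ∈ A 230, m ψ = c at hk hc ⊢
    generalize ∑ ψ ∈ A 231, m ψ = e at hk hd' ⊢
    interval_cases b <;> interval_cases c <;> interval_cases e <;> omega
  constructor
  · have hsq : ∑ ψ ∈ S, m ψ * m ψ = 2 := by
      have hsqA : ∀ d, ∑ ψ ∈ A d, m ψ ≤ 1 → ∑ ψ ∈ A d, m ψ * m ψ = ∑ ψ ∈ A d, m ψ := by
        intro d hd1
        refine Finset.sum_congr rfl fun ψ hψ => ?_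
        have := (Finset.single_le_sum (f := m) (fun _ _ => Nat.zero_le _) hψ).trans hd1
        rcases Nat.le_one_iff_eq_zero_or_eq_one.1 this with h | h <;> simp [h]
      rw [key (fun ψ => m ψ * m ψ) (fun ψ h => by simp [h]), hsqA 22 (by omega), hsqA 45 (by omega),
        hsqA 230 (by omega), hsqA 231 (by omega)]
      omega
    have hr := H33.classInner_permChar_self (G := G) a
    have hn : classInner (H33.permChar G Ω) (H33.permChar G Ω) = ((∑ ψ, m ψ * m ψ : ℕ) : ℂ) := by
      conv_lhs => arg 1; rw [hπ]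
      rw [classInner_sum_left, Nat.cast_sum]
      refine Finset.sum_congr rfl fun ψ _ => ?_
      rw [classInner_smul_left, ← classInner_conj_symm, hm, Complex.conj_natCast, Nat.cast_mul]
    rw [hn] at hr
    have := (Nat.cast_injective (R := ℂ) hr).symm
    rw [this, ← Finset.add_sum_erase _ _ (Finset.mem_univ one), h1, hsq]
  · intro z h22 h230
    have h := congrFun hπ z
    rw [Finset.sum_apply] at h
    simp only [Pi.smul_apply, smul_eq_mul] at h
    rw [← Finset.add_sum_erase _ _ (Finset.mem_univ one), h1, Nat.cast_one,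
      show ((one : IrrCharacter G) : G → ℂ) z = 1 from rfl,
      key (fun ψ => (m ψ : ℂ) * (ψ : G → ℂ) z) (fun ψ h0 => by simp [h0])] at h
    have hz : ∀ d, ∑ ψ ∈ A d, m ψ = 0 → ∑ ψ ∈ A d, (m ψ : ℂ) * (ψ : G → ℂ) z = 0 := fun d h0 =>
      Finset.sum_eq_zero fun ψ hψ => by simp [Finset.sum_eq_zero_iff.1 h0 ψ hψ]
    have hv : ∀ (d : ℕ) (c : ℂ),
        (∀ χ : IrrCharacter G, charDegree (χ : G → ℂ) = d → (χ : G → ℂ) z = c) →
          ∑ ψ ∈ A d, (m ψ : ℂ) * (ψ : G → ℂ) z = ((∑ ψ ∈ A d, m ψ : ℕ) : ℂ) * c := by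
      intro d c hc
      rw [Nat.cast_sum, Finset.sum_mul]
      exact Finset.sum_congr rfl fun ψ hψ => by rw [hc ψ (Finset.mem_filter.1 hψ).2]
    rw [hz 45 hval.2.1, hz 231 hval.2.2.2, hv 22 6 h22, hv 230 22 h230, hval.1, hval.2.2.1] at h
    have : ((Nat.card (fixedBy Ω z) : ℕ) : ℂ) = ((29 : ℕ) : ℂ) := by
      show H33.permChar G Ω z = _
      rw [h]; norm_num
    exact_mod_cast this

end Cfsg.Agent.H67.MTwentyThree
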